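import Mathlib
import Cfsg.Agent.H357.Large
import Cfsg.Agent.Lib.PGroupCoprimeAction

/-!
# Sylow normalizers of large primes (helper416)

`HypW G n` : `2 |G| = n!` and `2 |N_G(P)| = p (p - 1) (n - p)!` for the Sylow `p`-subgroups, `n / 2 < p ≤ n`.
`exists_data` : the simple section; `B_dvd` : its order is divisible by `Cheb.B n`.
-/

set_option autoImplicit false

namespace Cfsg.Agent.H416.PiData

open Subgroup Cfsg.Agent.H363.Frat Cfsg.Agent.H363.AltPrimes Cfsg.Agent.H357.Reduce Cfsg.Agent.H357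

/-- the hypotheses -/
structure HypW (G : Type*) [Group G] (n : ℕ) : Prop where
  card : 2 * Nat.card G = n.factorial
  norm : ∀ p : ℕ, p.Prime → n < 2 * p → p ≤ n → ∀ P : Sylow p G,
    2 * Nat.card ↥(normalizer ((P : Subgroup G) : Set G)) = p * (p - 1) * (n - p).factorial

section

variable {G : Type*} [Group G] [Finite G] {n : ℕ}

omit [Finite G] in
theorem HypW.dvd (h : HypW G n) : Nat.card G ∣ n.factorial := by
  rw [← h.card]; exact Nat.dvd_mul_left _ _

theorem HypW.odd (h : HypW G n) {p : ℕ} (hp2 : p ≠ 2) :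
    (Nat.card G).factorization p = n.factorial.factorization p := by
  rw [← h.card, Nat.factorization_mul (by norm_num) Nat.card_pos.ne', Finsupp.add_apply,
    Nat.Prime.factorization Nat.prime_two, Finsupp.single_apply, if_neg (Ne.symm hp2), zero_add]

theorem HypW.fact_one (h : HypW G n) (hn : 4 ≤ n) {r : ℕ} (hr : r.Prime) (h1 : n < 2 * r) (h2 : r ≤ n) :
    (Nat.card G).factorization r = 1 := by
  rw [h.odd (by omega)]
  exact factorization_factorial hr h2 h1

/-- the subgroups of order `r` are Sylow subgroups -/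
theorem HypW.exists_sylow (h : HypW G n) (hn : 4 ≤ n) {r : ℕ} (hr : r.Prime) (h1 : n < 2 * r) (h2 : r ≤ n)
    {x : G} (hx : orderOf x = r) : ∃ P : Sylow r G, (P : Subgroup G) = zpowers x := by
  have : Fact r.Prime := ⟨hr⟩
  have hp : IsPGroup r (zpowers x) := by
    apply IsPGroup.of_card (n := 1)
    rw [Nat.card_zpowers, hx, pow_one]
  obtain ⟨P, hP⟩ := hp.exists_le_sylow
  refine ⟨P, ?_⟩
  have hcard : Nat.card P = r := by
    rw [P.card_eq_multiplicity, h.fact_one hn hr h1 h2, pow_one]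
  symm
  apply Subgroup.eq_of_le_of_card_ge hP
  rw [Nat.card_zpowers, hx]
  exact hcard.le

theorem HypW.adj (h : HypW G n) (hn : 4 ≤ n) {r t : ℕ} (hr : r.Prime) (ht : t.Prime) (hrt : r ≠ t) (h1 : n < 2 * r)
    (h2 : r ≤ n) (h3 : n < r + t) (h4 : ¬ t ∣ r - 1) : NonAdj G r t := by
  intro g hg
  have hx : orderOf (g ^ t) = r := by
    rw [orderOf_pow' g ht.ne_zero, hg, Nat.gcd_eq_right (Dvd.intro_left r rfl)]
    exact Nat.mul_div_cancel _ ht.pos
  obtain ⟨P, hP⟩ := h.exists_sylow hn hr h1 h2 hx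
  have hgN : g ∈ normalizer ((P : Subgroup G) : Set G) := by
    rw [hP]
    apply centralizer_le_normalizer
    rw [mem_centralizer_iff]
    intro y hy
    obtain ⟨k, rfl⟩ := mem_zpowers_iff.1 hy
    exact ((Commute.refl g).pow_left t).zpow_left k
  have ht2 : t ∣ 2 * Nat.card ↥(normalizer ((P : Subgroup G) : Set G)) := by
    apply Dvd.dvd.mul_left
    have h5 : orderOf (⟨g, hgN⟩ : normalizer ((P : Subgroup G) : Set G)) ∣ _ := orderOf_dvd_natCard _
    rw [Subgroup.orderOf_mk, hg] at h5
    exact (Dvd.intro_left r rfl).trans h5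
  rw [h.norm r hr h1 h2 P] at ht2
  rcases ht.dvd_mul.1 ht2 with h5 | h5
  · rcases ht.dvd_mul.1 h5 with h6 | h6
    · exact hrt ((Nat.prime_dvd_prime_iff_eq ht hr).1 h6).symm
    · exact h4 h6
  · rw [ht.dvd_factorial] at h5
    omega

theorem HypW.adj' (h : HypW G n) (hn : 11 ≤ n) {r t : ℕ} (hr : r.Prime) (ht : t.Prime) (hrt : r ≠ t) (h1 : n < 2 * r)
    (h2 : r ≤ n) (h3 : n < 2 * t) : NonAdj G r t :=
  h.adj (by omega) hr ht hrt h1 h2 (by omega) (not_dvd_sub_one hn ht hr h3 h2)

/-- **The reduction** (after helper357) -/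
theorem exists_data (hn : 11 ≤ n) (h : HypW G n) :
    ∃ (N : Subgroup G) (_ : N.Normal) (M : Subgroup (G ⧸ N)), Data G n N M := by
  obtain ⟨p, s, hp, hs, hnp, hps, hsn⟩ := Cfsg.Agent.H363.TwoPrimes.exists_two_primes' n hn
  -- the primes in `(n/2, n]` divide `|G|` exactly once
  have hfac : ∀ r : ℕ, r.Prime → n < 2 * r → r ≤ n → (Nat.card G).factorization r = 1 := fun r hr h1 h2 =>
    h.fact_one (by omega) hr h1 h2
  have hadj : ∀ r t : ℕ, r.Prime → t.Prime → r ≠ t → n < 2 * r → r ≤ n → n < 2 * t → NonAdj G r t := by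
    intro r t hr ht hrt h1 h2 h3
    exact h.adj' hn hr ht hrt h1 h2 h3
  have hpG : p ∣ Nat.card G := by
    rw [hp.dvd_iff_one_le_factorization Nat.card_pos.ne', hfac p hp hnp (by omega)]
  -- a maximal normal `p'`-subgroup
  obtain ⟨N, ⟨hNn, hNp⟩, hNmax⟩ : ∃ N : Subgroup G, (N.Normal ∧ ¬ p ∣ Nat.card N) ∧
      ∀ L : Subgroup G, (L.Normal ∧ ¬ p ∣ Nat.card L) → N ≤ L → L = N := by
    have hfin : {L : Subgroup G | L.Normal ∧ ¬ p ∣ Nat.card L}.Finite := Set.toFinite _
    obtain ⟨N, hN⟩ := hfin.exists_maximal ⟨⊥, Subgroup.normal_bot, by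
      rw [Subgroup.card_bot]; exact fun h => hp.one_lt.ne' (Nat.dvd_one.mp h)⟩
    exact ⟨N, hN.1, fun L hL hNL => le_antisymm (hN.2 hL hNL) hNL⟩
  have hpidx : p ∣ N.index := by
    have h1 := N.card_mul_index
    rw [← h1] at hpG
    rcases hp.dvd_mul.mp hpG with h | h
    · exact absurd h hNp
    · exact h
  -- a normal subgroup of `G / N` which is not trivial has order divisible by `p`
  have hquot : ∀ M : Subgroup (G ⧸ N), M.Normal → M ≠ ⊥ → p ∣ Nat.card M := by
    intro M hMn hM0
    have hHn : (M.comap (QuotientGroup.mk' N)).Normal := hMn.comap _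
    have hNH : N ≤ M.comap (QuotientGroup.mk' N) := by
      intro x hx
      rw [mem_comap]
      have : QuotientGroup.mk' N x = 1 := (QuotientGroup.eq_one_iff x).mpr hx
      rw [this]
      exact one_mem _
    have hHN : M.comap (QuotientGroup.mk' N) ≠ N := by
      intro h
      apply hM0
      rw [eq_bot_iff]
      intro y hy
      obtain ⟨x, rfl⟩ := QuotientGroup.mk'_surjective N y
      have : x ∈ M.comap (QuotientGroup.mk' N) := hy
      rw [h] at this
      exact Subgroup.mem_bot.mpr ((QuotientGroup.eq_one_iff x).mpr this)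
    have hpH : p ∣ Nat.card (M.comap (QuotientGroup.mk' N)) := by
      by_contra h
      exact hHN (hNmax _ ⟨hHn, h⟩ hNH)
    have h1 : Nat.card (M.comap (QuotientGroup.mk' N)) = Nat.card N * Nat.card M := by
      have h2 := (M.comap (QuotientGroup.mk' N)).card_mul_index
      have h3 : (M.comap (QuotientGroup.mk' N)).index = M.index :=
        M.index_comap_of_surjective (QuotientGroup.mk'_surjective N)
      rw [h3, card_eq N M, ← mul_assoc] at h2
      exact Nat.eq_of_mul_eq_mul_right (Nat.pos_of_ne_zero M.index_ne_zero_of_finite) h2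
    rw [h1] at hpH
    rcases hp.dvd_mul.mp hpH with h | h
    · exact absurd h hNp
    · exact h
  -- a minimal normal subgroup of `G / N`
  obtain ⟨M, hMn, hM0, hMmin⟩ : ∃ M : Subgroup (G ⧸ N), M.Normal ∧ M ≠ ⊥ ∧
      ∀ L : Subgroup (G ⧸ N), L.Normal → L ≤ M → L = ⊥ ∨ L = M := by
    have hfin : {L : Subgroup (G ⧸ N) | L.Normal ∧ L ≠ ⊥}.Finite := Set.toFinite _
    obtain ⟨M, hM⟩ := hfin.exists_minimal ⟨⊤, Subgroup.normal_top, by
      intro h
      have h2 : Nat.card (G ⧸ N) = 1 := by
        have := Subgroup.card_top (G := G ⧸ N)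
        rw [h, Subgroup.card_bot] at this
        exact this.symm
      rw [← Subgroup.index_eq_card] at h2
      rw [h2] at hpidx
      exact hp.one_lt.ne' (Nat.dvd_one.mp hpidx)⟩
    refine ⟨M, hM.1.1, hM.1.2, fun L hL hLM => ?_⟩
    by_cases h : L = ⊥
    · exact Or.inl h
    · exact Or.inr (le_antisymm hLM (hM.2 ⟨hL, h⟩ hLM))
  have hpM : p ∣ Nat.card M := hquot M hMn hM0
  have hMG : Nat.card M * M.index ∣ Nat.card G := by
    rw [card_eq N M]
    exact Nat.dvd_mul_left _ _
  have hp2 : ∀ r : ℕ, r.Prime → n < 2 * r → r ≤ n → ¬ r ^ 2 ∣ Nat.card G := by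
    intro r hr h1 h2 h3
    have h4 := (hr.pow_dvd_iff_le_factorization Nat.card_pos.ne').mp h3
    rw [hfac r hr h1 h2] at h4
    omega
  have hp2M : ¬ p ^ 2 ∣ Nat.card M := fun h =>
    hp2 p hp hnp (by omega) ((h.trans (Nat.dvd_mul_right _ _)).trans hMG)
  have hsimple : IsSimpleGroup M := isSimple_of_minimal M hMmin hp hpM hp2M
  have hall : ∀ t : ℕ, t.Prime → n < 2 * t → t ≤ n → t ∣ Nat.card M := by
    intro t ht hnt htn
    by_cases htp : t = p
    · rw [htp]; exact hpM
    have htG : t ∣ Nat.card G := by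
      rw [ht.dvd_iff_one_le_factorization Nat.card_pos.ne', hfac t ht hnt htn]
    -- `t` does not divide `|N|`
    have htN : ¬ t ∣ Nat.card N := by
      intro h
      have h1 : (Nat.card N).factorization t = 1 := by
        have h2 : 1 ≤ (Nat.card N).factorization t :=
          (ht.dvd_iff_one_le_factorization Nat.card_pos.ne').mp h
        have h3 : (Nat.card N).factorization t ≤ (Nat.card G).factorization t :=
          (Nat.factorization_le_iff_dvd Nat.card_pos.ne' Nat.card_pos.ne').mpr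
            (Subgroup.card_subgroup_dvd_card N) t
        rw [hfac t ht hnt htn] at h3
        omega
      have h4 := pow_dvd_of_normal hp ht (Ne.symm htp)
        (hadj p t hp ht (Ne.symm htp) hnp (by omega) hnt) N (k := 1) (by rw [pow_one]; exact hpidx)
      rw [h1, pow_one, pow_one] at h4
      exact not_dvd_sub_one hn hp ht hnp htn h4
    -- `t` does not divide `|G : H|`
    have htH : ¬ t ∣ M.index := by
      intro h
      have h1 : (Nat.card M).factorization p = 1 := by
        have h2 : 1 ≤ (Nat.card M).factorization p :=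
          (hp.dvd_iff_one_le_factorization Nat.card_pos.ne').mp hpM
        have h3 : ¬ 2 ≤ (Nat.card M).factorization p := fun h4 =>
          hp2M ((hp.pow_dvd_iff_le_factorization Nat.card_pos.ne').mpr h4)
        omega
      have h4 := pow_dvd_of_normal ht hp htp
        ((hadj t p ht hp htp hnt htn hnp).quotient N) M (k := 1) (by rw [pow_one]; exact h)
      rw [h1, pow_one, pow_one] at h4
      exact not_dvd_sub_one hn ht hp hnt (by omega) h4
    rw [card_eq N M] at htG
    rcases ht.dvd_mul.mp htG with h | h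
    · exact absurd h htN
    · rcases ht.dvd_mul.mp h with h | h
      · exact h
      · exact absurd h htH
  have hnonab : ¬ ∀ a b : M, a * b = b * a := by
    intro hcommM
    have hsM : s ∣ Nat.card M := hall s hs (by omega) hsn
    let _ : CommGroup M := { (inferInstance : Group M) with mul_comm := hcommM }
    have hprime : (Nat.card M).Prime := IsSimpleGroup.prime_card
    have h1 := (Nat.prime_dvd_prime_iff_eq hp hprime).mp hpM
    have h2 := (Nat.prime_dvd_prime_iff_eq hs hprime).mp hsM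
    omega
  refine ⟨N, hNn, M, ⟨hMn, hsimple, hnonab, ?_, hall⟩⟩
  -- the centralizer
  by_contra hC
  have hCn : (centralizer (M : Set (G ⧸ N))).Normal := Subgroup.normal_centralizer
  have hpC := hquot _ hCn hC
  -- `C ∩ M` is trivial
  have hdisj : Disjoint (centralizer (M : Set (G ⧸ N))) M := by
    rw [disjoint_iff]
    rcases hMmin (centralizer (M : Set (G ⧸ N)) ⊓ M) inferInstance inf_le_right with h1 | h1
    · exact h1
    · exfalso
      apply hnonab
      intro a b
      have hb : (b : G ⧸ N) ∈ centralizer (M : Set (G ⧸ N)) ⊓ M := by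
        rw [h1]
        exact b.2
      apply Subtype.ext
      exact (mem_centralizer_iff.mp (mem_inf.mp hb).1 a a.2)
  have h5 : Nat.card (centralizer (M : Set (G ⧸ N))) * Nat.card M ∣ Nat.card (G ⧸ N) := by
    have h6 : Nat.card (centralizer (M : Set (G ⧸ N))) ∣ Nat.card ((G ⧸ N) ⧸ M) := by
      apply Subgroup.card_dvd_of_injective
        ((QuotientGroup.mk' M).comp (centralizer (M : Set (G ⧸ N))).subtype)
      rw [injective_iff_map_eq_one]
      intro x hx
      have h7 : (x : G ⧸ N) ∈ M := (QuotientGroup.eq_one_iff (x : G ⧸ N)).mp hx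
      have h8 : (x : G ⧸ N) ∈ centralizer (M : Set (G ⧸ N)) ⊓ M := mem_inf.mpr ⟨x.2, h7⟩
      rw [disjoint_iff.mp hdisj] at h8
      exact Subtype.ext (mem_bot.mp h8)
    rw [← Subgroup.index_eq_card] at h6
    rw [← M.index_mul_card]
    exact Nat.mul_dvd_mul_right h6 _
  have h6 : p ^ 2 ∣ Nat.card G := by
    rw [pow_two, ← N.card_mul_index, Subgroup.index_eq_card]
    exact ((Nat.mul_dvd_mul hpC hpM).trans h5).mul_left _
  exact hp2 p hp hnp (by omega) h6

end

/-! ### the primes greater than `n / 5` -/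

/-- `q` is a large prime not adjacent to `t` -/
def Gd (n t q : ℕ) : Prop := q.Prime ∧ n < 2 * q ∧ q ≤ n ∧ n < q + t ∧ ¬ t ∣ q - 1

section

variable {G : Type*} [Group G] [Finite G] {n : ℕ} {N : Subgroup G} [N.Normal] {M : Subgroup (G ⧸ N)}

theorem fact_large (D : Data G n N M) (h : HypW G n) (hn : 11 ≤ n) {q : ℕ} (hq : q.Prime) (h1 : n < 2 * q)
    (h2 : q ≤ n) : (Nat.card M).factorization q = 1 ∧ (Nat.card N).factorization q = 0 ∧
      M.index.factorization q = 0 := by
  have e1 := h.fact_one (by omega) hq h1 h2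
  have e2 := D.fact_add q
  have e3 : 1 ≤ (Nat.card M).factorization q :=
    (hq.dvd_iff_one_le_factorization Nat.card_pos.ne').mp (D.primes q hq h1 h2)
  omega

theorem dvd_pow_sub_one (D : Data G n N M) (h : HypW G n) (hn : 11 ≤ n) {t q : ℕ} (ht : t.Prime) (htq : t ≠ q)
    (hq : Gd n t q) : q ∣ t ^ (Nat.card N).factorization t - 1 := by
  obtain ⟨hq, h1, h2, h3, h4⟩ := hq
  have hidx : q ^ 1 ∣ N.index := by
    rw [pow_one, Subgroup.index_eq_card, ← M.card_mul_index]
    exact (D.primes q hq h1 h2).mul_right _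
  have := pow_dvd_of_normal hq ht (Ne.symm htq) (h.adj (by omega) hq ht (Ne.symm htq) h1 h2 h3 h4) N hidx
  rwa [pow_one] at this

theorem not_dvd_index (D : Data G n N M) (h : HypW G n) (hn : 11 ≤ n) {t q : ℕ} (ht : t.Prime)
    (htq : t ≠ q) (hq : Gd n t q) : ¬ t ∣ M.index := by
  intro hd
  obtain ⟨hq, h1, h2, h3, h4⟩ := hq
  have hN := D.normal
  have h5 := pow_dvd_of_normal ht hq htq (((h.adj (by omega) hq ht (Ne.symm htq) h1 h2 h3 h4).symm).quotient N) M
    (k := 1) (by rw [pow_one]; exact hd)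
  rw [(fact_large D h hn hq h1 h2).1, pow_one, pow_one] at h5
  exact h4 h5

/-- the numerical condition -/
def Cond (n t : ℕ) : Prop := ∀ a, 1 ≤ a → a ≤ n / t → ∃ q, Gd n t q ∧ ¬ q ∣ t ^ a - 1

theorem vt_eq (D : Data G n N M) (h : HypW G n) (hn : 11 ≤ n) {t : ℕ} (ht : t.Prime) (ht2 : t ≠ 2) (hnt : n < t * t)
    (htn : t ≤ n) (hc : 2 * t ≤ n → Cond n t) : (Nat.card M).factorization t = n / t := by
  rw [← factorial_factorization ht hnt, ← h.odd ht2, D.fact_add t]
  by_cases h2t : 2 * t ≤ n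
  · have hc := hc h2t
    have hqt : ∀ {q}, Gd n t q → t ≠ q := by
      rintro q ⟨-, h1, -⟩ rfl
      omega
    have hpos : 1 ≤ n / t := (Nat.one_le_div_iff ht.pos).2 htn
    have h1 : (Nat.card N).factorization t = 0 := by
      by_contra h0
      have hle : (Nat.card N).factorization t ≤ n / t := by
        rw [← factorial_factorization ht hnt, ← h.odd ht2, D.fact_add t]
        omega
      obtain ⟨q, hq, h2⟩ := hc _ (Nat.one_le_iff_ne_zero.2 h0) hle
      exact h2 (dvd_pow_sub_one D h hn ht (hqt hq) hq)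
    obtain ⟨q, hq, -⟩ := hc 1 le_rfl hpos
    rw [h1, Nat.factorization_eq_zero_of_not_dvd (not_dvd_index D h hn ht (hqt hq) hq)]
    omega
  · obtain ⟨e1, e2, e3⟩ := fact_large D h hn ht (by omega) htn
    omega

/-- two good primes in `(4n/5, n]` are enough -/
theorem cond_of_two {t r s : ℕ} (hn : 41 ≤ n) (h5 : n < 5 * t) (h2t : 2 * t ≤ n) (hr : Gd n t r) (hs : Gd n t s)
    (h1 : 4 * n < 5 * r) (h2 : r < s) : Cond n t := by
  intro a ha1 ha2
  by_contra hcon
  push Not at hcon
  have hdr := hcon r hr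
  have hds := hcon s hs
  obtain ⟨hr, -, -, -, -⟩ := hr
  obtain ⟨hs, -, h3, -, -⟩ := hs
  have hcop : r.Coprime s := (Nat.coprime_primes hr hs).2 (by omega)
  have ht9 : 9 ≤ t := by omega
  have ha4 : a ≤ 4 := by
    by_contra hlt
    have h6 : a * t ≤ n := (Nat.mul_le_mul_right t ha2).trans (Nat.div_mul_le_self n t)
    have : 5 * t ≤ a * t := Nat.mul_le_mul_right t (by omega)
    omega
  have hr0 : ¬ r ∣ t - 1 := fun hd => by
    have := Nat.le_of_dvd (by omega) hd
    omega
  have hs0 : ¬ s ∣ t - 1 := fun hd => by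
    have := Nat.le_of_dvd (by omega) hd
    omega
  obtain ⟨u, rfl⟩ : ∃ u, t = u + 1 := ⟨t - 1, by omega⟩
  rw [Nat.add_sub_cancel] at hr0 hs0
  interval_cases a
  · rw [pow_one, Nat.add_sub_cancel] at hdr
    exact hr0 hdr
  · have e : (u + 1) ^ 2 - 1 = u * (u + 2) := by
      have : (u + 1) ^ 2 = u * (u + 2) + 1 := by ring
      omega
    rw [e] at hdr
    have h6 := (hr.dvd_mul.1 hdr).resolve_left hr0
    have := Nat.le_of_dvd (by omega) h6
    omega
  · have e : (u + 1) ^ 3 - 1 = u * (u ^ 2 + 3 * u + 3) := by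
      have : (u + 1) ^ 3 = u * (u ^ 2 + 3 * u + 3) + 1 := by ring
      omega
    rw [e] at hdr hds
    have h6 := (hr.dvd_mul.1 hdr).resolve_left hr0
    have h7 := (hs.dvd_mul.1 hds).resolve_left hs0
    have h8 := Nat.le_of_dvd (by positivity) (hcop.mul_dvd_of_dvd_of_dvd h6 h7)
    nlinarith
  · have e : (u + 1) ^ 4 - 1 = u * ((u + 2) * (u ^ 2 + 2 * u + 2)) := by
      have : (u + 1) ^ 4 = u * ((u + 2) * (u ^ 2 + 2 * u + 2)) + 1 := by ring
      omega
    rw [e] at hdr hds
    have h6 := (hr.dvd_mul.1 hdr).resolve_left hr0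
    have h7 := (hs.dvd_mul.1 hds).resolve_left hs0
    have hr2 : ¬ r ∣ u + 2 := fun hd => by
      have := Nat.le_of_dvd (by omega) hd
      omega
    have hs2 : ¬ s ∣ u + 2 := fun hd => by
      have := Nat.le_of_dvd (by omega) hd
      omega
    have h6' := (hr.dvd_mul.1 h6).resolve_left hr2
    have h7' := (hs.dvd_mul.1 h7).resolve_left hs2
    have h8 := Nat.le_of_dvd (by positivity) (hcop.mul_dvd_of_dvd_of_dvd h6' h7')
    nlinarith

end

end Cfsg.Agent.H416.PiData
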