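import Mathlib
import Cfsg.Agent.H357.NT
import Cfsg.Agent.H416.PiData

/-!
# Three primes in `(4n/5, n]` for `n ≥ 61` (helper416)

`cond` : for `n ≥ 41` the numerical condition `Cond n t` of `PiData` holds for all primes `t`, `n / 5 < t ≤ n / 2`.
`B_dvd` : `Cheb.B n ∣ |M|`.
-/

set_option autoImplicit false

namespace Cfsg.Agent.H416.ThreePrimes

open Finset Cfsg.Agent.H357.Cheb Cfsg.Agent.H416.PiData

theorem three_primes_large {n : ℕ} (hn : 60000 ≤ n) :
    ∃ r s u : ℕ, r.Prime ∧ s.Prime ∧ u.Prime ∧ 4 * n < 5 * r ∧ r < s ∧ s < u ∧ u ≤ n := by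
  have hn' : (60000 : ℝ) ≤ n := by exact_mod_cast hn
  have h1 := theta_lower (m := n) (by omega)
  have h2 := psi_upper (n := 4 * n / 5) (by omega)
  have h3 := Chebyshev.theta_le_psi ((4 * n / 5 : ℕ) : ℝ)
  have h4 : ((4 * n / 5 : ℕ) : ℝ) ≤ 0.8 * (n : ℝ) := by
    have := Nat.cast_div_le (α := ℝ) (m := 4 * n) (n := 5)
    push_cast at this
    linarith
  have h5 : Real.log ((4 * n / 5 : ℕ) : ℝ) ≤ Real.log n := by
    apply Real.log_le_log
    · have : 0 < 4 * n / 5 := by omega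
      exact_mod_cast this
    · linarith
  have h6 := log_le_lin hn
  have h7 := sqrt_le_lin hn
  have h8 : 2 * Real.log n < Chebyshev.theta n - Chebyshev.theta (4 * n / 5 : ℕ) := by linarith
  rw [theta_sub (by omega)] at h8
  set P := (Ioc (4 * n / 5) n).filter Nat.Prime with hP
  have h9 : 2 < P.card := by
    by_contra hc
    have h10 : ∑ t ∈ P, Real.log t ≤ ∑ t ∈ P, Real.log n := by
      refine sum_le_sum fun t ht => ?_
      rw [hP, mem_filter, mem_Ioc] at ht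
      apply Real.log_le_log
      · exact_mod_cast ht.2.pos
      · exact_mod_cast ht.1.2
    rw [sum_const, nsmul_eq_mul] at h10
    have h11 : (P.card : ℝ) ≤ 2 := by exact_mod_cast (not_lt.1 hc)
    have h12 : 0 ≤ Real.log n := Real.log_nonneg (by linarith)
    nlinarith
  obtain ⟨a, b, c, ha, hb, hc, hab, hac, hbc⟩ := Finset.two_lt_card_iff.mp h9
  rw [hP, mem_filter, mem_Ioc] at ha hb hc
  have key : ∀ x y z : ℕ, (4 * n / 5 < x ∧ x ≤ n) ∧ x.Prime → (4 * n / 5 < y ∧ y ≤ n) ∧ y.Prime →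
      (4 * n / 5 < z ∧ z ≤ n) ∧ z.Prime → x < y → y < z →
      ∃ r s u : ℕ, r.Prime ∧ s.Prime ∧ u.Prime ∧ 4 * n < 5 * r ∧ r < s ∧ s < u ∧ u ≤ n := fun x y z hx hy hz h1 h2 =>
    ⟨x, y, z, hx.2, hy.2, hz.2, by omega, h1, h2, hz.1.2⟩
  rcases lt_or_gt_of_ne hab with h | h <;> rcases lt_or_gt_of_ne hac with h' | h' <;>
    rcases lt_or_gt_of_ne hbc with h'' | h''
  · exact key a b c ha hb hc h h''
  · exact key a c b ha hc hb h' h''
  · omega
  · exact key c a b hc ha hb h' h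
  · exact key b a c hb ha hc h h'
  · omega
  · exact key b c a hb hc ha h'' h'
  · exact key c b a hc hb ha h'' h

def triples : List (ℕ × ℕ × ℕ × ℕ) := [(53, 59, 61, 67), (59, 61, 67, 74), (67, 71, 73, 84), (73, 79, 83, 92), (79, 83, 89, 99), (83, 89, 97, 104),
    (97, 101, 103, 122), (107, 109, 113, 134), (113, 127, 131, 142), (131, 137, 139, 164), (151, 157, 163, 189),
    (173, 179, 181, 217), (197, 199, 211, 247), (233, 239, 241, 292), (277, 281, 283, 347), (331, 337, 347, 414),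
    (397, 401, 409, 497), (479, 487, 491, 599), (587, 593, 599, 734), (719, 727, 733, 899), (881, 883, 887, 1102),
    (1091, 1093, 1097, 1364), (1321, 1327, 1361, 1652), (1621, 1627, 1637, 2027), (2011, 2017, 2027, 2514), (2473,
    2477, 2503, 3092), (3079, 3083, 3089, 3849), (3823, 3833, 3847, 4779), (4733, 4751, 4759, 5917), (5881, 5897,
    5903, 7352), (7333, 7349, 7351, 9167), (9151, 9157, 9161, 11439), (11411, 11423, 11437, 14264), (14243, 14249,
    14251, 17804), (17783, 17789, 17791, 22229), (22189, 22193, 22229, 27737), (27701, 27733, 27737, 34627),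
    (34603, 34607, 34613, 43254), (43207, 43223, 43237, 54009), (53987, 53993, 54001, 67484)]

def chk : ℕ → List (ℕ × ℕ × ℕ × ℕ) → Bool
  | x, [] => Nat.ble 60000 x
  | x, c :: l => Nat.ble c.2.2.1 x && Nat.blt c.1 c.2.1 && Nat.blt c.2.1 c.2.2.1 && isP c.1 && isP c.2.1 &&
      isP c.2.2.1 && Nat.blt (4 * (c.2.2.2 - 1)) (5 * c.1) && chk c.2.2.2 l

theorem of_chk : ∀ (l : List (ℕ × ℕ × ℕ × ℕ)) (x : ℕ), chk x l = true → ∀ n, x ≤ n → n < 60000 →
    ∃ r s u : ℕ, r.Prime ∧ s.Prime ∧ u.Prime ∧ 4 * n < 5 * r ∧ r < s ∧ s < u ∧ u ≤ n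
  | [], x, h, n, h1, h2 => by
    unfold chk at h
    rw [Nat.ble_eq] at h
    omega
  | c :: l, x, h, n, h1, h2 => by
    unfold chk at h
    simp only [Bool.and_eq_true, Nat.ble_eq, Nat.blt_eq] at h
    obtain ⟨⟨⟨⟨⟨⟨⟨h3, h4⟩, h5⟩, h6⟩, h7⟩, h8⟩, h9⟩, h10⟩ := h
    by_cases hb : c.2.2.2 ≤ n
    · exact of_chk l c.2.2.2 h10 n hb h2
    · exact ⟨c.1, c.2.1, c.2.2.1, prime_of_isP h6, prime_of_isP h7, prime_of_isP h8, by omega, h4, h5, by omega⟩

theorem chk_ok : chk 61 triples = true := by decide +kernel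

/-- **Three primes in `(4n/5, n]`** for `n ≥ 61`. -/
theorem three_primes {n : ℕ} (hn : 61 ≤ n) :
    ∃ r s u : ℕ, r.Prime ∧ s.Prime ∧ u.Prime ∧ 4 * n < 5 * r ∧ r < s ∧ s < u ∧ u ≤ n := by
  by_cases h : n < 60000
  · exact of_chk triples 61 chk_ok n hn h
  · exact three_primes_large (by omega)

/-! ### the numerical condition -/

theorem at_most_one {n t q q' : ℕ} (hn : 41 ≤ n) (ht : t.Prime) (h5 : n < 5 * t) (hq : q.Prime) (hq' : q'.Prime)
    (h1 : 4 * n < 5 * q) (h2 : q < q') (h3 : q' ≤ n) (hd : t ∣ q - 1) (hd' : t ∣ q' - 1) : False := by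
  obtain ⟨c, hc⟩ := hd
  obtain ⟨d, hd⟩ := hd'
  obtain ⟨x, hx⟩ := hq.odd_of_ne_two (by omega)
  obtain ⟨y, hy⟩ := hq'.odd_of_ne_two (by omega)
  obtain ⟨z, hz⟩ := ht.odd_of_ne_two (by omega)
  have hd5 : d < 5 := by
    by_contra hlt
    have : t * 5 ≤ t * d := Nat.mul_le_mul_left t (by omega)
    omega
  have hcd : c < d := by
    by_contra hlt
    have : t * d ≤ t * c := Nat.mul_le_mul_left t (by omega)
    omega
  interval_cases d <;> interval_cases c <;> omega

theorem cond_large {n t : ℕ} (hn : 61 ≤ n) (ht : t.Prime) (h5 : n < 5 * t) (h2t : 2 * t ≤ n) : Cond n t := by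
  obtain ⟨r, s, u, hr, hs, hu, h1, h2, h3, h4⟩ := three_primes hn
  have gd : ∀ q : ℕ, q.Prime → 4 * n < 5 * q → q ≤ n → ¬ t ∣ q - 1 → Gd n t q := fun q hq h1 h2 h3 =>
    ⟨hq, by omega, h2, by omega, h3⟩
  by_cases hr0 : t ∣ r - 1
  · have hs0 : ¬ t ∣ s - 1 := fun h => at_most_one (by omega) ht h5 hr hs h1 h2 (by omega) hr0 h
    have hu0 : ¬ t ∣ u - 1 := fun h => at_most_one (by omega) ht h5 hr hu h1 (by omega) h4 hr0 h
    exact cond_of_two (by omega) h5 h2t (gd s hs (by omega) (by omega) hs0) (gd u hu (by omega) h4 hu0) (by omega) h3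
  · by_cases hs0 : t ∣ s - 1
    · have hu0 : ¬ t ∣ u - 1 := fun h => at_most_one (by omega) ht h5 hs hu (by omega) h3 h4 hs0 h
      exact cond_of_two (by omega) h5 h2t (gd r hr h1 (by omega) hr0) (gd u hu (by omega) h4 hu0) h1 (by omega)
    · exact cond_of_two (by omega) h5 h2t (gd r hr h1 (by omega) hr0) (gd s hs (by omega) (by omega) hs0) h1 h2

/-- the good primes for small `n` -/
def smallChk (n t : ℕ) (L : List ℕ) : Bool :=
  (List.range (n / t)).all fun a => L.any fun q =>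
    Nat.blt n (2 * q) && Nat.ble q n && Nat.blt n (q + t) && !(Nat.beq ((q - 1) % t) 0) &&
      !(Nat.beq ((t ^ (a + 1) - 1) % q) 0)

theorem of_smallChk {n t : ℕ} {L : List ℕ} (hL : ∀ q ∈ L, q.Prime) (h : smallChk n t L = true) : Cond n t := by
  intro a ha1 ha2
  unfold smallChk at h
  rw [List.all_eq_true] at h
  have h1 := h (a - 1) (List.mem_range.2 (by omega))
  rw [List.any_eq_true] at h1
  obtain ⟨q, hq, h2⟩ := h1
  simp only [Bool.and_eq_true, Nat.blt_eq, Nat.ble_eq, Bool.not_eq_true', Nat.sub_add_cancel ha1] at h2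
  obtain ⟨⟨⟨⟨h3, h4⟩, h5⟩, h6⟩, h7⟩ := h2
  refine ⟨q, ⟨hL q hq, h3, h4, h5, fun hd => ?_⟩, fun hd => ?_⟩
  · rw [Nat.mod_eq_zero_of_dvd hd] at h6
    exact Bool.noConfusion h6
  · rw [Nat.mod_eq_zero_of_dvd hd] at h7
    exact Bool.noConfusion h7

def smallPrimes : List ℕ := [29, 31, 37, 41, 43, 47, 53, 59]

theorem smallPrimes_prime : ∀ q ∈ smallPrimes, q.Prime := by
  intro q hq
  simp only [smallPrimes, List.mem_cons, List.not_mem_nil, or_false] at hq
  rcases hq with rfl | rfl | rfl | rfl | rfl | rfl | rfl | rfl <;> norm_num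

theorem small_ok : ∀ n < 61, 41 ≤ n → ∀ t ∈ [11, 13, 17, 19, 23, 29], n < 5 * t → 2 * t ≤ n →
    smallChk n t smallPrimes = true := by decide +kernel

theorem cond_small {n t : ℕ} (hn : 41 ≤ n) (hn' : n < 61) (ht : t.Prime) (h5 : n < 5 * t) (h2t : 2 * t ≤ n) :
    Cond n t := by
  apply of_smallChk smallPrimes_prime
  apply small_ok n hn' hn t ?_ h5 h2t
  have h9 : 9 ≤ t := by omega
  have h30 : t ≤ 30 := by omega
  interval_cases t <;> first | (exfalso; revert ht; norm_num; done) | decide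

theorem cond {n t : ℕ} (hn : 41 ≤ n) (ht : t.Prime) (h5 : n < 5 * t) (h2t : 2 * t ≤ n) : Cond n t := by
  rcases Nat.lt_or_ge n 61 with h | h
  · exact cond_small hn h ht h5 h2t
  · exact cond_large h ht h5 h2t

open Cfsg.Agent.H357.Reduce in
/-- `B n` divides `|M|` -/
theorem B_dvd {G : Type*} [Group G] [Finite G] {n : ℕ} {N : Subgroup G} [N.Normal] {M : Subgroup (G ⧸ N)}
    (D : Data G n N M) (h : HypW G n) (hn : 41 ≤ n) : Cfsg.Agent.H357.Cheb.B n ∣ Nat.card M := by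
  apply B_dvd_of
  · exact Nat.card_pos.ne'
  · intro t ht h1 h2
    have hnt : n < t * t := by
      have : 5 ≤ t := by omega
      nlinarith
    exact (vt_eq D h (by omega) ht (by omega) hnt h2 fun h2t => cond hn ht h1 h2t).ge

end Cfsg.Agent.H416.ThreePrimes
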