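import Mathlib
import Cfsg.Agent.H416.Arith

/-!
# The `t`-part of the order of `E₈(q)` is smaller than `Φ₁₅(q) Φ₂₄(q) Φ₃₀(q)` (helper416)
-/

set_option autoImplicit false

namespace Cfsg.Agent.H416.Arith

open Polynomial Cfsg.Agent.Lib.Zsigmondy

theorem mm0 {q : ℕ} (hq : 2 ≤ q) : ((mm q 0 : ℕ) : ℤ) = (q : ℤ) ^ 8 - q ^ 7 + q ^ 5 - q ^ 4 + q ^ 3 - q + 1 := by
  rw [mm_eq, cast_c _ hq]
  exact eval_15 _

theorem mm1 {q : ℕ} (hq : 2 ≤ q) : ((mm q 1 : ℕ) : ℤ) = (q : ℤ) ^ 8 - q ^ 4 + 1 := by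
  rw [mm_eq, cast_c _ hq]
  exact eval_24 _

theorem mm2 {q : ℕ} (hq : 2 ≤ q) : ((mm q 2 : ℕ) : ℤ) = (q : ℤ) ^ 8 + q ^ 7 - q ^ 5 - q ^ 4 - q ^ 3 + q + 1 := by
  rw [mm_eq, cast_c _ hq]
  exact eval_30 _

theorem mm0_lt {q : ℕ} (hq : 2 ≤ q) : mm q 0 < q ^ 8 := by
  zify
  rw [mm0 hq]
  obtain ⟨x, rfl⟩ := Nat.exists_eq_add_of_le' hq
  push_cast
  have h : (0 : ℤ) ≤ x := by positivity
  have : (0 : ℤ) < ((x : ℤ) + 2) ^ 8 - (((x : ℤ) + 2) ^ 8 - (x + 2) ^ 7 + (x + 2) ^ 5 - (x + 2) ^ 4 + (x + 2) ^ 3 - (x + 2) + 1) := by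
    ring_nf
    positivity
  linarith

theorem mm1_lt {q : ℕ} (hq : 2 ≤ q) : mm q 1 < q ^ 8 := by
  zify
  rw [mm1 hq]
  have h : (1 : ℤ) < (q : ℤ) ^ 4 := by
    have : 1 < q ^ 4 := Nat.one_lt_pow (by norm_num) (by omega)
    exact_mod_cast this
  linarith

theorem mm2_lt {q : ℕ} (hq : 2 ≤ q) : mm q 2 < q ^ 9 := by
  zify
  rw [mm2 hq]
  obtain ⟨x, rfl⟩ := Nat.exists_eq_add_of_le' hq
  push_cast
  have : (0 : ℤ) < ((x : ℤ) + 2) ^ 9 - (((x : ℤ) + 2) ^ 8 + (x + 2) ^ 7 - (x + 2) ^ 5 - (x + 2) ^ 4 - (x + 2) ^ 3 + (x + 2) + 1) := by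
    ring_nf
    positivity
  linarith

theorem mm0_ge {q : ℕ} (hq : 2 ≤ q) : q ^ 7 * (q - 1) ≤ mm q 0 := by
  zify [show 1 ≤ q by omega]
  rw [mm0 hq]
  obtain ⟨x, rfl⟩ := Nat.exists_eq_add_of_le' hq
  push_cast
  have : (0 : ℤ) ≤ (((x : ℤ) + 2) ^ 8 - (x + 2) ^ 7 + (x + 2) ^ 5 - (x + 2) ^ 4 + (x + 2) ^ 3 - (x + 2) + 1) - (x + 2) ^ 7 * (x + 2 - 1) := by
    ring_nf
    positivity
  linarith

theorem mm1_ge {q : ℕ} (hq : 2 ≤ q) : q ^ 7 * (q - 1) ≤ mm q 1 := by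
  zify [show 1 ≤ q by omega]
  rw [mm1 hq]
  obtain ⟨x, rfl⟩ := Nat.exists_eq_add_of_le' hq
  push_cast
  have : (0 : ℤ) ≤ (((x : ℤ) + 2) ^ 8 - (x + 2) ^ 4 + 1) - (x + 2) ^ 7 * (x + 2 - 1) := by
    ring_nf
    positivity
  linarith

theorem mm1_ge' {q : ℕ} (hq : 2 ≤ q) : 15 * q ^ 8 ≤ 16 * mm q 1 := by
  zify
  rw [mm1 hq]
  obtain ⟨x, rfl⟩ := Nat.exists_eq_add_of_le' hq
  push_cast
  have : (0 : ℤ) ≤ 16 * (((x : ℤ) + 2) ^ 8 - (x + 2) ^ 4 + 1) - 15 * (x + 2) ^ 8 := by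
    ring_nf
    positivity
  linarith

theorem mm2_ge {q : ℕ} (hq : 2 ≤ q) : q ^ 8 ≤ mm q 2 := by
  zify
  rw [mm2 hq]
  obtain ⟨x, rfl⟩ := Nat.exists_eq_add_of_le' hq
  push_cast
  have : (0 : ℤ) ≤ (((x : ℤ) + 2) ^ 8 + (x + 2) ^ 7 - (x + 2) ^ 5 - (x + 2) ^ 4 - (x + 2) ^ 3 + (x + 2) + 1) - (x + 2) ^ 8 := by
    ring_nf
    positivity
  linarith

theorem mm_ge {q : ℕ} (hq : 2 ≤ q) (i : Fin 3) : q ^ 7 ≤ mm q i := by
  have h7 : 0 < q ^ 7 := pow_pos (by omega) _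
  have h1 : q ^ 7 ≤ q ^ 7 * (q - 1) := Nat.le_mul_of_pos_right _ (by omega)
  fin_cases i
  · exact h1.trans (mm0_ge hq)
  · exact h1.trans (mm1_ge hq)
  · exact (Nat.pow_le_pow_right (by omega) (by norm_num)).trans (mm2_ge hq)

theorem mm_lt {q : ℕ} (hq : 2 ≤ q) (i : Fin 3) : mm q i < q ^ 9 := by
  have h1 : q ^ 8 ≤ q ^ 9 := Nat.pow_le_pow_right (by omega) (by norm_num)
  fin_cases i
  · exact (mm0_lt hq).trans_le h1
  · exact (mm1_lt hq).trans_le h1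
  · exact mm2_lt hq

theorem le_mm {q : ℕ} (hq : 2 ≤ q) (i : Fin 3) : ∃ j k, j ≠ i ∧ k ≠ i ∧ j ≠ k ∧ mm q i ≤ mm q j * mm q k := by
  have key : ∀ j k, mm q i ≤ mm q j * mm q k := by
    intro j k
    calc mm q i ≤ q ^ 9 := (mm_lt hq i).le
      _ ≤ q ^ 14 := Nat.pow_le_pow_right (by omega) (by norm_num)
      _ = q ^ 7 * q ^ 7 := by ring
      _ ≤ _ := Nat.mul_le_mul (mm_ge hq j) (mm_ge hq k)
  have : ∀ i : Fin 3, ∃ j k : Fin 3, j ≠ i ∧ k ≠ i ∧ j ≠ k := by decide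
  obtain ⟨j, k, h1, h2, h3⟩ := this i
  exact ⟨j, k, h1, h2, h3, key j k⟩

theorem one_lt_mm {q : ℕ} (hq : 2 ≤ q) (i : Fin 3) : 1 < mm q i :=
  lt_of_lt_of_le (Nat.one_lt_pow (by norm_num) (by omega)) (mm_ge hq i)

theorem odd_mm {q : ℕ} (i : Fin 3) : Odd (mm q i) := by
  rw [← Nat.not_even_iff_odd, even_iff_two_dvd]
  intro h
  exact prime_mm h (Or.inl rfl)

/-- the product of the three torus orders -/
noncomputable def PP (q : ℕ) : ℕ := mm q 0 * mm q 1 * mm q 2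

theorem PP_lt {q : ℕ} (hq : 2 ≤ q) : PP q < q ^ 25 := by
  have h0 := mm0_lt hq
  have h1 := mm1_lt hq
  have h2 := mm2_lt hq
  calc PP q < q ^ 8 * q ^ 8 * q ^ 9 :=
        Nat.mul_lt_mul'' (Nat.mul_lt_mul'' h0 h1) h2
    _ = q ^ 25 := by ring

theorem PP_ge {q : ℕ} (hq : 2 ≤ q) : q ^ 7 * (q - 1) * (15 * q ^ 8) * q ^ 8 ≤ 16 * PP q := by
  have h0 := mm0_ge hq
  have h1 := mm1_ge' hq
  have h2 := mm2_ge hq
  calc q ^ 7 * (q - 1) * (15 * q ^ 8) * q ^ 8 ≤ mm q 0 * (16 * mm q 1) * mm q 2 :=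
        Nat.mul_le_mul (Nat.mul_le_mul h0 h1) h2
    _ = 16 * PP q := by unfold PP; ring

theorem bound_odd {q : ℕ} (hq : 2 ≤ q) : 243 * (q + 1) ^ 8 < PP q := by
  have h := PP_ge hq
  have h1 : 16 * (243 * (q + 1) ^ 8) < q ^ 7 * (q - 1) * (15 * q ^ 8) * q ^ 8 := by
    obtain ⟨x, rfl⟩ := Nat.exists_eq_add_of_le' hq
    have e : x + 2 - 1 = x + 1 := by omega
    rw [e]
    zify
    have : (0 : ℤ) < (x + 2) ^ 7 * (x + 1) * (15 * (x + 2) ^ 8) * (x + 2) ^ 8 - 16 * (243 * (x + 2 + 1) ^ 8) := by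
      ring_nf
      positivity
    linarith
  omega

theorem bound_two {q : ℕ} (hq : 3 ≤ q) : 2 ^ 14 * (q + 1) ^ 8 < PP q := by
  have h := PP_ge (q := q) (by omega)
  have h1 : 16 * (2 ^ 14 * (q + 1) ^ 8) < q ^ 7 * (q - 1) * (15 * q ^ 8) * q ^ 8 := by
    obtain ⟨x, rfl⟩ := Nat.exists_eq_add_of_le' hq
    have e : x + 3 - 1 = x + 2 := by omega
    rw [e]
    zify
    have : (0 : ℤ) < (x + 3) ^ 7 * (x + 2) * (15 * (x + 3) ^ 8) * (x + 3) ^ 8 - 16 * (2 ^ 14 * (x + 3 + 1) ^ 8) := by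
      ring_nf
      positivity
    linarith
  omega

/-! ### the `t`-part -/

/-- the `t`-part of `n` -/
def tp (t n : ℕ) : ℕ := t ^ n.factorization t

theorem tp_mul (t : ℕ) {a b : ℕ} (ha : a ≠ 0) (hb : b ≠ 0) : tp t (a * b) = tp t a * tp t b :=
  Nat.ordProj_mul t ha hb

theorem tp_prod (t : ℕ) {ι : Type*} [DecidableEq ι] (s : Finset ι) (f : ι → ℕ) (hf : ∀ i ∈ s, f i ≠ 0) :
    tp t (∏ i ∈ s, f i) = ∏ i ∈ s, tp t (f i) := by
  induction s using Finset.induction_on with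
  | empty => simp [tp]
  | insert a s ha ih =>
    rw [Finset.prod_insert ha, Finset.prod_insert ha, tp_mul t (hf a (Finset.mem_insert_self a s)) ?_,
      ih fun i hi => hf i (Finset.mem_insert_of_mem hi)]
    exact Finset.prod_ne_zero_iff.2 fun i hi => hf i (Finset.mem_insert_of_mem hi)

theorem tp_dvd (t n : ℕ) : tp t n ∣ n := Nat.ordProj_dvd n t

theorem tp_pos {t : ℕ} (ht : t.Prime) (n : ℕ) : 0 < tp t n := pow_pos ht.pos _

theorem tp_eq_one {t n : ℕ} (h : ¬ t ∣ n) : tp t n = 1 := by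
  unfold tp
  rw [Nat.factorization_eq_zero_of_not_dvd h, pow_zero]

theorem tp_le_of_not_dvd {t n b : ℕ} (ht : t.Prime) (_hn : n ≠ 0) (h : ¬ t ^ (b + 1) ∣ n) : tp t n ≤ t ^ b := by
  unfold tp
  apply Nat.pow_le_pow_right ht.pos
  by_contra hlt
  apply h
  exact (Nat.pow_dvd_pow t (by omega)).trans (Nat.ordProj_dvd n t)

theorem tp_weyl {t : ℕ} (ht : t.Prime) (ht2 : t ≠ 2) : tp t 696729600 ≤ 243 := by
  by_cases h3 : t = 3
  · subst h3
    exact tp_le_of_not_dvd (b := 5) ht (by norm_num) (by norm_num)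
  by_cases h5 : t = 5
  · subst h5
    exact (tp_le_of_not_dvd (b := 2) ht (by norm_num) (by norm_num)).trans (by norm_num)
  by_cases h7 : t = 7
  · subst h7
    exact (tp_le_of_not_dvd (b := 1) ht (by norm_num) (by norm_num)).trans (by norm_num)
  rw [tp_eq_one]
  · norm_num
  · intro h
    rw [show (696729600 : ℕ) = 2 ^ 14 * 3 ^ 5 * 5 ^ 2 * 7 by norm_num] at h
    rcases (Nat.Prime.dvd_mul ht).1 h with h | h
    · rcases (Nat.Prime.dvd_mul ht).1 h with h | h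
      · rcases (Nat.Prime.dvd_mul ht).1 h with h | h
        · exact ht2 ((Nat.prime_dvd_prime_iff_eq ht Nat.prime_two).1 (ht.dvd_of_dvd_pow h))
        · exact h3 ((Nat.prime_dvd_prime_iff_eq ht Nat.prime_three).1 (ht.dvd_of_dvd_pow h))
      · exact h5 ((Nat.prime_dvd_prime_iff_eq ht Nat.prime_five).1 (ht.dvd_of_dvd_pow h))
    · exact h7 ((Nat.prime_dvd_prime_iff_eq ht (by norm_num)).1 h)

theorem c_le {e q : ℕ} (hq : 2 ≤ q) : c e q ≤ (q + 1) ^ e.totient := by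
  have h := cyclotomic_eval_le_add_one_pow_totient (q := (q : ℝ)) (by exact_mod_cast (show 1 < q by omega)) e
  have h1 : ((c e q : ℕ) : ℝ) = (cyclotomic e ℝ).eval (q : ℝ) := by
    have h2 : ((c e q : ℤ) : ℝ) = ((cyclotomic e ℤ).eval (q : ℤ) : ℤ) := by rw [cast_c e hq]
    rw [← map_cyclotomic_int e ℝ, eval_map, ← Int.cast_natCast (R := ℝ), ← Int.cast_natCast (R := ℝ) q,
      ← eq_intCast (Int.castRingHom ℝ) (q : ℤ), eval₂_at_apply, eq_intCast]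
    exact h2
  rw [← h1] at h
  exact_mod_cast h

theorem tp_order {t q e : ℕ} (ht : t.Prime) (hq : 2 ≤ q) (he : 0 < e) (h : ∀ n, t ∣ q ^ n - 1 ↔ e ∣ n) :
    tp t (q ^ e - 1) ≤ (q + 1) ^ e.totient := by
  have h1 : tp t (q ^ e - 1) ∣ c e q := by
    have h2 : q ^ e - 1 = c e q * ∏ j ∈ e.divisors.erase e, c j q := by
      rw [← prod_c he hq]
      exact (Finset.mul_prod_erase _ _ (Nat.mem_divisors.2 ⟨dvd_refl _, he.ne'⟩)).symm
    have h3 : (tp t (q ^ e - 1)).Coprime (∏ j ∈ e.divisors.erase e, c j q) := by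
      unfold tp
      apply Nat.Coprime.pow_left
      rw [ht.coprime_iff_not_dvd]
      intro h4
      obtain ⟨j, hj, hℓj⟩ := (Prime.dvd_finsetProd_iff ht.prime _).1 h4
      rw [Finset.mem_erase, Nat.mem_divisors] at hj
      have hj0 : 0 < j := Nat.pos_of_dvd_of_pos hj.2.1 he
      have h5 := hℓj.trans (c_dvd hj0 hq (dvd_refl j))
      exact hj.1 (Nat.dvd_antisymm hj.2.1 ((h j).1 h5))
    have h4 := tp_dvd t (q ^ e - 1)
    nth_rewrite 2 [h2] at h4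
    exact h3.dvd_of_dvd_mul_right h4
  exact (Nat.le_of_dvd (c_pos e hq) h1).trans (c_le hq)

theorem tp_lte {t q e d : ℕ} (ht : t.Prime) (ht2 : t ≠ 2) (hq : 2 ≤ q) (htq : ¬ t ∣ q) (he : 0 < e)
    (h : ∀ n, t ∣ q ^ n - 1 ↔ e ∣ n) (hd : 0 < d) (hed : e ∣ d) :
    tp t (q ^ d - 1) ≤ tp t (q ^ e - 1) * tp t d := by
  have : Fact t.Prime := ⟨ht⟩
  obtain ⟨j, rfl⟩ := hed
  have hj : 0 < j := Nat.pos_of_mul_pos_left hd
  have h1 : 1 < q ^ e := Nat.one_lt_pow he.ne' (by omega)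
  have h2 := padicValNat.pow_sub_pow (p := t) (ht.odd_of_ne_two ht2) h1 ((h e).2 (dvd_refl e))
    (fun h3 => htq (ht.dvd_of_dvd_pow h3)) hj.ne'
  rw [one_pow, ← pow_mul] at h2
  rw [← Nat.factorization_def _ ht, ← Nat.factorization_def _ ht, ← Nat.factorization_def _ ht] at h2
  have h3 : tp t (q ^ (e * j) - 1) = tp t (q ^ e - 1) * tp t j := by
    unfold tp
    rw [h2, pow_add]
  rw [h3]
  apply Nat.mul_le_mul_left
  rw [tp_mul t he.ne' hj.ne']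
  exact Nat.le_mul_of_pos_left _ (tp_pos ht e)

theorem tp_N'_odd {t q : ℕ} (ht : t.Prime) (ht2 : t ≠ 2) (hq : 2 ≤ q) (htq : ¬ t ∣ q) :
    tp t (N' q) ≤ 243 * (q + 1) ^ 8 := by
  have : Fact t.Prime := ⟨ht⟩
  set e := orderOf (q : ZMod t) with he'
  have h : ∀ n, t ∣ q ^ n - 1 ↔ e ∣ n := fun n => dvd_pow_sub_one_iff (by omega) n
  have he : 0 < e := by
    have h1 : e ∣ t - 1 := orderOf_dvd_pred ht htq
    exact Nat.pos_of_dvd_of_pos h1 (by have := ht.two_le; omega)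
  have hdd : ∀ d ∈ dd, 0 < d := by decide
  have h1 : tp t (N' q) = ∏ d ∈ dd, tp t (q ^ d - 1) :=
    tp_prod t dd _ fun d hd => (pow_sub_one_pos hq (hdd d hd)).ne'
  have h2 : ∀ d ∈ dd, tp t (q ^ d - 1) ≤ (if e ∣ d then (q + 1) ^ e.totient else 1) * tp t d := by
    intro d hd
    split_ifs with hed
    · exact (tp_lte ht ht2 hq htq he h (hdd d hd) hed).trans (Nat.mul_le_mul_right _ (tp_order ht hq he h))
    · rw [tp_eq_one fun h3 => hed ((h d).1 h3), one_mul]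
      exact tp_pos ht d
  rw [h1]
  calc ∏ d ∈ dd, tp t (q ^ d - 1) ≤ ∏ d ∈ dd, ((if e ∣ d then (q + 1) ^ e.totient else 1) * tp t d) :=
        Finset.prod_le_prod' h2
    _ = (∏ d ∈ dd, (if e ∣ d then (q + 1) ^ e.totient else 1)) * ∏ d ∈ dd, tp t d := Finset.prod_mul_distrib
    _ ≤ (q + 1) ^ 8 * 243 := by
        apply Nat.mul_le_mul
        · rw [Finset.prod_ite, Finset.prod_const, Finset.prod_const_one, mul_one, ← pow_mul]
          apply Nat.pow_le_pow_right (by omega)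
          by_cases h30 : e ≤ 30
          · have key : ∀ e ≤ 30, e.totient * (dd.filter (fun d => e ∣ d)).card ≤ 8 := by decide +kernel
            exact key e h30
          · have : dd.filter (fun d => e ∣ d) = ∅ := by
              rw [Finset.filter_eq_empty_iff]
              intro d hd hed
              have h4 : ∀ d ∈ dd, d ≤ 30 := by decide
              have h4' := h4 d hd
              have := Nat.le_of_dvd (hdd d hd) hed
              omega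
            rw [this]; simp
        · rw [← tp_prod t dd (fun d => d) fun d hd => (hdd d hd).ne']
          have : ∏ d ∈ dd, d = 696729600 := by decide +kernel
          rw [this]
          exact tp_weyl ht ht2
    _ = _ := by ring

theorem tp_N'_two {q : ℕ} (hq : 2 ≤ q) (htq : ¬ 2 ∣ q) : tp 2 (N' q) ≤ 2 ^ 14 * (q + 1) ^ 8 := by
  have hdd : ∀ d ∈ dd, 0 < d := by decide
  have hev : ∀ d ∈ dd, Even d := by decide
  have h1 : tp 2 (N' q) = ∏ d ∈ dd, tp 2 (q ^ d - 1) :=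
    tp_prod 2 dd _ fun d hd => (pow_sub_one_pos hq (hdd d hd)).ne'
  have hodd : q % 2 = 1 := by omega
  have h2q : 2 ∣ q - 1 := by omega
  have h0 : tp 2 (q + 1) * tp 2 (q - 1) ≤ 2 * (q + 1) := by
    have hp : ∀ n, n ≠ 0 → tp 2 n ≤ n := fun n hn => Nat.le_of_dvd (Nat.pos_of_ne_zero hn) (tp_dvd 2 n)
    by_cases h4 : 4 ∣ q - 1
    · have h5 : tp 2 (q + 1) ≤ 2 ^ 1 := tp_le_of_not_dvd Nat.prime_two (by omega) (by norm_num; omega)
      calc _ ≤ 2 ^ 1 * (q - 1) := Nat.mul_le_mul h5 (hp _ (by omega))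
        _ ≤ 2 * (q + 1) := by omega
    · have h5 : tp 2 (q - 1) ≤ 2 ^ 1 := tp_le_of_not_dvd Nat.prime_two (by omega) (by norm_num; omega)
      calc _ ≤ (q + 1) * 2 ^ 1 := Nat.mul_le_mul (hp _ (by omega)) h5
        _ ≤ 2 * (q + 1) := by omega
  have h2 : ∀ d ∈ dd, 2 * tp 2 (q ^ d - 1) ≤ 2 * (q + 1) * tp 2 d := by
    intro d hd
    have h3 := padicValNat.pow_two_sub_pow (x := q) (y := 1) (by omega) h2q htq (hdd d hd).ne' (hev d hd)
    rw [one_pow] at h3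
    rw [← Nat.factorization_def _ Nat.prime_two, ← Nat.factorization_def _ Nat.prime_two,
      ← Nat.factorization_def _ Nat.prime_two, ← Nat.factorization_def _ Nat.prime_two] at h3
    have h4 : 2 * tp 2 (q ^ d - 1) = tp 2 (q + 1) * tp 2 (q - 1) * tp 2 d := by
      unfold tp
      rw [← pow_add, ← pow_add, ← h3, pow_succ']
    rw [h4]
    exact Nat.mul_le_mul_right _ h0
  have h3 : ∀ d ∈ dd, tp 2 (q ^ d - 1) ≤ (q + 1) * tp 2 d := by
    intro d hd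
    have := h2 d hd
    have e : 2 * (q + 1) * tp 2 d = 2 * ((q + 1) * tp 2 d) := by ring
    omega
  rw [h1]
  calc ∏ d ∈ dd, tp 2 (q ^ d - 1) ≤ ∏ d ∈ dd, ((q + 1) * tp 2 d) := Finset.prod_le_prod' h3
    _ = (∏ d ∈ dd, (q + 1)) * ∏ d ∈ dd, tp 2 d := Finset.prod_mul_distrib
    _ ≤ (q + 1) ^ 8 * 2 ^ 14 := by
        apply Nat.mul_le_mul
        · rw [Finset.prod_const]
          exact le_of_eq (by rw [show dd.card = 8 by decide])
        · rw [← tp_prod 2 dd (fun d => d) fun d hd => (hdd d hd).ne']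
          have : ∏ d ∈ dd, d = 696729600 := by decide +kernel
          rw [this]
          exact tp_le_of_not_dvd Nat.prime_two (by norm_num) (by norm_num)
    _ = _ := by ring

/-- **the `t`-part of `|E₈(q)|`, `t ∤ q`** -/
theorem tp_N'_lt {t q : ℕ} (ht : t.Prime) (hq : 2 ≤ q) (htq : ¬ t ∣ q) : tp t (N' q) < PP q := by
  by_cases ht2 : t = 2
  · subst ht2
    exact (tp_N'_two hq htq).trans_lt (bound_two (by
      rcases Nat.lt_or_ge q 3 with h | h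
      · exfalso
        have : q = 2 := by omega
        exact htq ⟨1, by omega⟩
      · exact h))
  · exact (tp_N'_odd ht ht2 hq htq).trans_lt (bound_odd hq)

theorem tp_N_lt {t q : ℕ} (ht : t.Prime) (hq : 2 ≤ q) (htq : ¬ t ∣ q) : tp t (N q) < PP q := by
  unfold N
  rw [tp_mul t (pow_ne_zero _ (by omega)) (N'_pos hq).ne',
    tp_eq_one (fun h => htq (ht.dvd_of_dvd_pow h)), one_mul]
  exact tp_N'_lt ht hq htq

theorem N'_ge {q : ℕ} (hq : 2 ≤ q) : q ^ 127 ≤ N' q := by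
  have hq1 : 1 ≤ q := by omega
  have key : ∀ d, 8 ≤ d → 255 * q ^ d ≤ 256 * (q ^ d - 1) := by
    intro d hd
    have h1 : 2 ^ 8 ≤ q ^ d := (Nat.pow_le_pow_right (by norm_num) hd).trans (Nat.pow_le_pow_left hq d)
    omega
  have h2 : 3 * q ^ 2 ≤ 4 * (q ^ 2 - 1) := by
    have : 4 ≤ q ^ 2 := by nlinarith
    omega
  have e : N' q = (q ^ 2 - 1) * ∏ d ∈ ({8, 12, 14, 18, 20, 24, 30} : Finset ℕ), (q ^ d - 1) := by
    unfold N' dd
    rw [Finset.prod_insert (by decide)]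
  have h3 : 255 ^ 7 * q ^ 126 ≤ 256 ^ 7 * ∏ d ∈ ({8, 12, 14, 18, 20, 24, 30} : Finset ℕ), (q ^ d - 1) := by
    calc 255 ^ 7 * q ^ 126 = ∏ d ∈ ({8, 12, 14, 18, 20, 24, 30} : Finset ℕ), (255 * q ^ d) := by
          repeat rw [Finset.prod_insert (by decide)]
          rw [Finset.prod_singleton]
          ring
      _ ≤ ∏ d ∈ ({8, 12, 14, 18, 20, 24, 30} : Finset ℕ), (256 * (q ^ d - 1)) := by
          apply Finset.prod_le_prod'
          intro d hd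
          exact key d (by revert d; decide)
      _ = _ := by
          rw [Finset.prod_mul_distrib]
          congr 1
  have h4 : (3 * q ^ 2) * (255 ^ 7 * q ^ 126) ≤ (4 * 256 ^ 7) * N' q := by
    rw [e]
    calc _ ≤ (4 * (q ^ 2 - 1)) * (256 ^ 7 * ∏ d ∈ ({8, 12, 14, 18, 20, 24, 30} : Finset ℕ), (q ^ d - 1)) :=
          Nat.mul_le_mul h2 h3
      _ = _ := by ring
  have h5 : (4 * 256 ^ 7) * q ^ 127 ≤ (3 * q ^ 2) * (255 ^ 7 * q ^ 126) := by
    have : (3 * q ^ 2) * (255 ^ 7 * q ^ 126) = (3 * 255 ^ 7 * q) * q ^ 127 := by ring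
    rw [this]
    apply Nat.mul_le_mul_right
    calc 4 * 256 ^ 7 ≤ 3 * 255 ^ 7 * 2 := by norm_num
      _ ≤ _ := Nat.mul_le_mul_left _ hq
  exact Nat.le_of_mul_le_mul_left (h5.trans h4) (by norm_num)

end Cfsg.Agent.H416.Arith
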