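import Mathlib
import Cfsg.Agent.H363.Frat

/-!
# Three isolated coprime Hall divisors (helper416)

`Isol G m`: no element of `G` has order `r * s` with `r ∣ m`, `s ∤ m` primes.

For three pairwise coprime odd isolated Hall divisors `m 0, m 1, m 2` of `|G|`:

* `Hyp.normal_dvd`: a normal subgroup `N` of order prime to `m i` satisfies `m i ∣ |N|_s - 1` for all primes `s`;
* `exists_core`: there is a largest normal subgroup `L` of order prime to all `m i`;
* `exists_simple`: then `G / L` has a nonabelian simple normal subgroup `M` with trivial centraliser, all primes of the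
  `m i` divide `|M|` and `|G/L : M| < (m i) ^ 2`.
-/

set_option autoImplicit false

namespace Cfsg.Agent.H416.Iso

open Subgroup Cfsg.Agent.H363.Frat

/-- every prime of `m` is non-adjacent to every prime not dividing `m` -/
def Isol (G : Type*) [Group G] (m : ℕ) : Prop :=
  ∀ r s : ℕ, r.Prime → s.Prime → r ∣ m → ¬ s ∣ m → NonAdj G r s

/-- three pairwise coprime odd isolated Hall divisors -/
structure Hyp (G : Type*) [Group G] (m : Fin 3 → ℕ) : Prop where
  one_lt : ∀ i, 1 < m i
  odd : ∀ i, Odd (m i)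
  dvd : ∀ i, m i ∣ Nat.card G
  hall : ∀ i, (m i).Coprime (Nat.card G / m i)
  cop : ∀ i j, i ≠ j → (m i).Coprime (m j)
  isol : ∀ i, Isol G (m i)
  le : ∀ i, ∃ j k, j ≠ i ∧ k ≠ i ∧ j ≠ k ∧ m i ≤ m j * m k

variable {G : Type*} [Group G] [Finite G] {m : Fin 3 → ℕ}

theorem Isol.quotient {n : ℕ} (h : Isol G n) (N : Subgroup G) [N.Normal] : Isol (G ⧸ N) n :=
  fun r s hr hs h1 h2 => (h r s hr hs h1 h2).quotient N

/-- a divisor of `|G|` all of whose primes divide the Hall divisor `n` divides `n` -/
theorem dvd_of_hall {N n c : ℕ} (hn : n ∣ N) (hh : n.Coprime (N / n)) (hc : c ∣ N)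
    (hp : ∀ s : ℕ, s.Prime → s ∣ c → s ∣ n) : c ∣ n := by
  have h1 : c.Coprime (N / n) := by
    apply Nat.Coprime.symm
    apply Nat.coprime_of_dvd
    intro s hs h2 h3
    have h4 := hp s hs h3
    have h5 : s ∣ Nat.gcd n (N / n) := Nat.dvd_gcd h4 h2
    rw [hh] at h5
    exact hs.one_lt.ne' (Nat.dvd_one.1 h5)
  have h2 : c ∣ n * (N / n) := by rw [Nat.mul_div_cancel' hn]; exact hc
  exact h1.dvd_of_dvd_mul_right h2

theorem Hyp.quotient (h : Hyp G m) (N : Subgroup G) [N.Normal] (hN : ∀ i, (m i).Coprime (Nat.card N)) :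
    Hyp (G ⧸ N) m := by
  have hc : Nat.card G = Nat.card (G ⧸ N) * Nat.card N := card_eq_card_quotient_mul_card_subgroup N
  refine ⟨h.one_lt, h.odd, fun i => ?_, fun i => ?_, h.cop, fun i => (h.isol i).quotient N, h.le⟩
  · have h1 := h.dvd i
    rw [hc] at h1
    exact (hN i).dvd_of_dvd_mul_right h1
  · have h1 := h.dvd i
    rw [hc] at h1
    have h2 : m i ∣ Nat.card (G ⧸ N) := (hN i).dvd_of_dvd_mul_right h1
    have h3 := h.hall i
    rw [hc, Nat.mul_comm, Nat.mul_div_assoc _ h2] at h3
    exact h3.coprime_dvd_right (Dvd.intro_left _ rfl)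

theorem Hyp.dvd_index (h : Hyp G m) {N : Subgroup G} {i : Fin 3} (hN : (m i).Coprime (Nat.card N)) :
    m i ∣ N.index := by
  have h1 := h.dvd i
  rw [← N.card_mul_index] at h1
  exact hN.dvd_of_dvd_mul_left h1

/-- `m i` divides `|N|_s - 1` -/
theorem Hyp.normal_dvd (h : Hyp G m) (N : Subgroup G) [N.Normal] {i : Fin 3} (hN : (m i).Coprime (Nat.card N))
    {s : ℕ} (hs : s.Prime) (hsm : ¬ s ∣ m i) : m i ∣ s ^ (Nat.card N).factorization s - 1 := by
  rw [Nat.dvd_iff_prime_pow_dvd_dvd]
  intro r k hr hrk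
  rcases Nat.eq_zero_or_pos k with rfl | hk
  · rw [pow_zero]; exact one_dvd _
  have hrm : r ∣ m i := (dvd_pow_self r hk.ne').trans hrk
  have hrs : r ≠ s := by rintro rfl; exact hsm hrm
  exact pow_dvd_of_normal hr hs hrs (h.isol i r s hr hs hrm hsm) N (hrk.trans (h.dvd_index hN))

/-- no nontrivial normal subgroup of order prime to all `m i` -/
def Red (Q : Type*) [Group Q] (m : Fin 3 → ℕ) : Prop :=
  ∀ N : Subgroup Q, N.Normal → (∀ i, (m i).Coprime (Nat.card N)) → N = ⊥

omit [Finite G] in
theorem Red.exists_prime (h : Red G m) {N : Subgroup G} (hN : N.Normal) (h1 : N ≠ ⊥) :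
    ∃ i r, r.Prime ∧ r ∣ m i ∧ r ∣ Nat.card N := by
  by_contra hcon
  push Not at hcon
  apply h1
  apply h N hN
  intro i
  apply Nat.coprime_of_dvd
  intro r hr h2 h3
  exact hcon i r hr h2 h3

/-- **The core**: a largest normal subgroup of order prime to all `m i`. -/
theorem exists_core (G : Type*) [Group G] [Finite G] (m : Fin 3 → ℕ) :
    ∃ (L : Subgroup G) (_ : L.Normal), (∀ i, (m i).Coprime (Nat.card L)) ∧ Red (G ⧸ L) m := by
  classical
  let S : Set (Subgroup G) := {L | L.Normal ∧ ∀ i, (m i).Coprime (Nat.card L)}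
  have hfin : S.Finite := Set.toFinite _
  have hne : S.Nonempty := ⟨⊥, inferInstance, fun i => by rw [Subgroup.card_bot]; exact Nat.coprime_one_right _⟩
  obtain ⟨L, hL, hmax⟩ := hfin.exists_maximalFor (fun L : Subgroup G => Nat.card L) S hne
  have hLn : L.Normal := hL.1
  refine ⟨L, hLn, hL.2, ?_⟩
  intro N hN hcop
  let K := N.comap (QuotientGroup.mk' L)
  have hK : Nat.card K = Nat.card L * Nat.card N := by
    have h1 : Nat.card K = Nat.card (L.subgroupOf K) * (L.subgroupOf K).index :=
      (Subgroup.card_mul_index _).symm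
    have hLK : L ≤ K := by
      intro x hx
      rw [mem_comap, QuotientGroup.mk'_apply, (QuotientGroup.eq_one_iff x).2 hx]
      exact one_mem _
    have h2 : Nat.card (L.subgroupOf K) = Nat.card L := Nat.card_congr (subgroupOfEquivOfLe hLK).toEquiv
    have h3 : (L.subgroupOf K).index = Nat.card N := by
      rw [Subgroup.index_eq_card]
      exact Nat.card_congr (quotEquiv L N).toEquiv
    rw [h1, h2, h3]
  have hKS : K ∈ S := by
    refine ⟨inferInstance, fun i => ?_⟩
    show (m i).Coprime (Nat.card K)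
    rw [hK]
    exact Nat.Coprime.mul_right (hL.2 i) (hcop i)
  have h1 : Nat.card L ≤ Nat.card K := by
    rw [hK]
    exact Nat.le_mul_of_pos_right _ Nat.card_pos
  have h2 : Nat.card K ≤ Nat.card L := hmax hKS h1
  have h3 : Nat.card N = 1 := by
    rw [hK] at h2
    have h4 : 0 < Nat.card L := Nat.card_pos
    have h5 : 0 < Nat.card N := Nat.card_pos
    nlinarith
  exact Subgroup.card_eq_one.1 h3

theorem exists_minimal (hG : Nontrivial G) :
    ∃ M : Subgroup G, M.Normal ∧ M ≠ ⊥ ∧ ∀ L : Subgroup G, L.Normal → L ≤ M → L = ⊥ ∨ L = M := by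
  classical
  let S : Set (Subgroup G) := {M | M.Normal ∧ M ≠ ⊥}
  have hfin : S.Finite := Set.toFinite _
  have hne : S.Nonempty := ⟨⊤, inferInstance, top_ne_bot⟩
  obtain ⟨M, hM, hmin⟩ := hfin.exists_minimal hne
  refine ⟨M, hM.1, hM.2, fun L hL hLM => ?_⟩
  by_cases h : L = ⊥
  · exact Or.inl h
  · exact Or.inr (le_antisymm hLM (hmin ⟨hL, h⟩ hLM))

theorem orderOf_pow_form {r : ℕ} {x : G} (hx : orderOf x = r) : ∃ k, orderOf x = r ^ k := ⟨1, by rw [hx, pow_one]⟩

/-- an `m i`-element of prime order does not commute with an involution -/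
theorem Hyp.not_commute_two (h : Hyp G m) {i : Fin 3} {r : ℕ} (hr : r.Prime) (hrm : r ∣ m i) {x y : G}
    (hx : orderOf x = r) (hy : orderOf y = 2) : ¬ Commute x y := by
  intro hc
  have h2 : ¬ 2 ∣ m i := by
    intro h2
    have := h.odd i
    rw [← Nat.not_even_iff_odd, even_iff_two_dvd] at this
    exact this h2
  have hr2 : r ≠ 2 := by rintro rfl; exact h2 hrm
  have h3 := eq_one_of_commute hr Nat.prime_two hr2 (h.isol i r 2 hr Nat.prime_two hrm h2)
    (orderOf_pow_form hx) (orderOf_pow_form hy) hc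
    (by rintro rfl; rw [orderOf_one] at hy; exact absurd hy (by norm_num))
  rw [h3, orderOf_one] at hx
  exact hr.one_lt.ne hx

/-- **The minimal normal subgroup is nonabelian simple.** `hev`: nonabelian simple groups have even order. -/
theorem Hyp.simple_of_minimal (h : Hyp G m) (hred : Red G m)
    (hev : ∀ T : Subgroup G, IsSimpleGroup T → ¬ IsMulCommutative T → 2 ∣ Nat.card T)
    (M : Subgroup G) [hMn : M.Normal] (hM : M ≠ ⊥)
    (hmin : ∀ L : Subgroup G, L.Normal → L ≤ M → L = ⊥ ∨ L = M) :
    IsSimpleGroup M ∧ ¬ IsMulCommutative M ∧ 2 ∣ Nat.card M := by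
  obtain ⟨i, r, hr, hrm, hrM⟩ := hred.exists_prime hMn hM
  have : Fact r.Prime := ⟨hr⟩
  obtain ⟨T, n, _, hT, hn, ⟨e⟩⟩ := Cfsg.Agent.Lib.MinNormal.exists_mulEquiv_pi M hM hmin
  have hcard : Nat.card M = Nat.card T ^ n := by
    rw [Nat.card_congr e.toEquiv, Nat.card_fun]
    simp
  have hrT : r ∣ Nat.card T := by
    rw [hcard] at hrM
    exact hr.dvd_of_dvd_pow hrM
  by_cases hcomm : IsMulCommutative T
  · exfalso
    have hTp : (Nat.card T).Prime := by
      let _ : CommGroup T := { (inferInstance : Group T) with mul_comm := fun a b => hcomm.is_comm.comm a b }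
      exact IsSimpleGroup.prime_card
    have hTr : Nat.card T = r := ((Nat.prime_dvd_prime_iff_eq hr hTp).1 hrT).symm
    rw [hTr] at hcard
    have hfac : (Nat.card M).factorization r = n := by
      rw [hcard, Nat.Prime.factorization_pow hr]; simp
    obtain ⟨j, k, hj, hk, hjk, hle⟩ := h.le i
    have key : ∀ j, j ≠ i → m j ∣ Nat.card M - 1 := by
      intro j hj
      have hrj : ¬ r ∣ m j := by
        intro h1
        have h2 : r ∣ Nat.gcd (m i) (m j) := Nat.dvd_gcd hrm h1
        rw [h.cop i j hj.symm] at h2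
        exact hr.one_lt.ne' (Nat.dvd_one.1 h2)
      have h1 : (m j).Coprime (Nat.card M) := by
        rw [hcard]
        exact Nat.Coprime.pow_right _ ((hr.coprime_iff_not_dvd.2 hrj).symm)
      have h2 := h.normal_dvd M h1 hr hrj
      rw [hfac, ← hcard] at h2
      exact h2
    have h1 : m j * m k ∣ Nat.card M - 1 := (h.cop j k hjk).mul_dvd_of_dvd_of_dvd (key j hj) (key k hk)
    have h2 : Nat.card M ∣ m i := by
      apply dvd_of_hall (h.dvd i) (h.hall i) (Subgroup.card_subgroup_dvd_card M)
      intro s hs hsM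
      rw [hcard] at hsM
      have := (Nat.prime_dvd_prime_iff_eq hs hr).1 (hs.dvd_of_dvd_pow hsM)
      rw [this]; exact hrm
    have h3 : 1 < Nat.card M := by
      rw [hcard]; exact Nat.one_lt_pow hn.ne' hr.one_lt
    have h4 := Nat.le_of_dvd (by omega) h1
    have h5 := Nat.le_of_dvd (by have := h.one_lt i; omega) h2
    omega
  · have h2T := hev T hT hcomm
    have hn1 : n = 1 := by
      by_contra hne
      have hn2 : 2 ≤ n := by omega
      obtain ⟨x, hx⟩ := exists_prime_orderOf_dvd_card' r hrT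
      have : Fact (Nat.Prime 2) := ⟨Nat.prime_two⟩
      obtain ⟨y, hy⟩ := exists_prime_orderOf_dvd_card' 2 h2T
      let i0 : Fin n := ⟨0, by omega⟩
      let i1 : Fin n := ⟨1, by omega⟩
      have hi : i0 ≠ i1 := by
        intro h
        have := congrArg Fin.val h
        simp [i0, i1] at this
      let X : Fin n → T := Pi.mulSingle i0 x
      let Y : Fin n → T := Pi.mulSingle i1 y
      have hXY : Commute X Y := Pi.mulSingle_commute (f := fun _ : Fin n => T) hi x y
      have hX : orderOf ((e.symm X : M) : G) = r := by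
        rw [Subgroup.orderOf_coe, MulEquiv.orderOf_eq, orderOf_piMulSingle, hx]
      have hY : orderOf ((e.symm Y : M) : G) = 2 := by
        rw [Subgroup.orderOf_coe, MulEquiv.orderOf_eq, orderOf_piMulSingle, hy]
      apply h.not_commute_two hr hrm hX hY
      have := (hXY.map e.symm.toMonoidHom).map M.subtype
      exact this
    subst hn1
    have e' := e.trans (MulEquiv.funUnique (Fin 1) T)
    refine ⟨?_, ?_, ?_⟩
    · have := hT
      exact e'.isSimpleGroup
    · intro hc
      apply hcomm
      rw [isMulCommutative_iff] at hc ⊢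
      intro a b
      have := hc (e'.symm a) (e'.symm b)
      rw [← map_mul, ← map_mul] at this
      exact e'.symm.injective this
    · rw [hcard, pow_one]; exact h2T

/-- the centraliser of a normal subgroup of even order is trivial -/
theorem Hyp.centralizer_eq_bot (h : Hyp G m) (hred : Red G m) (M : Subgroup G) [M.Normal]
    (h2 : 2 ∣ Nat.card M) : Subgroup.centralizer (M : Set G) = ⊥ := by
  by_contra hne
  obtain ⟨i, r, hr, hrm, hrC⟩ := hred.exists_prime (N := Subgroup.centralizer (M : Set G)) inferInstance hne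
  have : Fact r.Prime := ⟨hr⟩
  have : Fact (Nat.Prime 2) := ⟨Nat.prime_two⟩
  obtain ⟨x, hx⟩ := exists_prime_orderOf_dvd_card' r hrC
  obtain ⟨y, hy⟩ := exists_prime_orderOf_dvd_card' 2 h2
  apply h.not_commute_two hr hrm (x := (x : G)) (y := (y : G)) (by rw [Subgroup.orderOf_coe, hx])
    (by rw [Subgroup.orderOf_coe, hy])
  exact ((Subgroup.mem_centralizer_iff.1 x.2) y.1 y.2).symm

/-- every prime of `m i` divides `|M|`. `hE`: an automorphism of prime order `r`, `2 ≠ r ∤ |M|`, fixes an
involution. -/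
theorem Hyp.dvd_card (h : Hyp G m) (M : Subgroup G) [M.Normal]
    (hE : ∀ r : ℕ, r.Prime → r ≠ 2 → ¬ r ∣ Nat.card M → ∀ x : MulAut M, x ^ r = 1 → ∃ g : M, orderOf g = 2 ∧ x g = g)
    {i : Fin 3} {r : ℕ} (hr : r.Prime) (hrm : r ∣ m i) : r ∣ Nat.card M := by
  by_contra hrM
  have : Fact r.Prime := ⟨hr⟩
  obtain ⟨x, hx⟩ := exists_prime_orderOf_dvd_card' r (hrm.trans (h.dvd i))
  have hr2 : r ≠ 2 := by
    rintro rfl
    have := h.odd i
    rw [← Nat.not_even_iff_odd, even_iff_two_dvd] at this
    exact this hrm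
  obtain ⟨g, hg, hxg⟩ := hE r hr hr2 hrM (MulAut.conjNormal x) (by
    rw [← map_pow, ← hx, pow_orderOf_eq_one, map_one])
  apply h.not_commute_two hr hrm hx (y := (g : G)) (by rw [Subgroup.orderOf_coe, hg])
  have h1 := congrArg Subtype.val hxg
  rw [MulAut.conjNormal_apply] at h1
  show x * g = g * x
  calc x * g = (x * g * x⁻¹) * x := by group
    _ = g * x := by rw [h1]

/-- the centraliser of a nontrivial `m i`-element of prime power order has order dividing `m i` -/
theorem Hyp.card_centralizer_dvd (h : Hyp G m) {i : Fin 3} {r : ℕ} (hr : r.Prime) (hrm : r ∣ m i) {z : G}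
    (hz : ∃ k, orderOf z = r ^ k) (hz1 : z ≠ 1) {C : Subgroup G} (hC : ∀ c ∈ C, Commute z c) :
    Nat.card C ∣ m i := by
  apply dvd_of_hall (h.dvd i) (h.hall i) (Subgroup.card_subgroup_dvd_card C)
  intro s hs hsC
  by_contra hsm
  have : Fact s.Prime := ⟨hs⟩
  obtain ⟨c, hc⟩ := exists_prime_orderOf_dvd_card' s hsC
  have hrs : r ≠ s := by rintro rfl; exact hsm hrm
  have h1 := eq_one_of_commute hs hr hrs.symm (h.isol i r s hr hs hrm hsm).symm
    (x := (c : G)) (orderOf_pow_form (by rw [Subgroup.orderOf_coe, hc])) hz (hC c.1 c.2).symm hz1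
  have h2 : c = 1 := Subtype.ext h1
  rw [h2, orderOf_one] at hc
  exact hs.one_lt.ne hc

/-- `|G : M| < (m i)^2` if a prime of `m i` divides `|M|`, `M` normal -/
theorem Hyp.index_lt (h : Hyp G m) (M : Subgroup G) [M.Normal] {i : Fin 3} {r : ℕ} (hr : r.Prime)
    (hrm : r ∣ m i) (hrM : r ∣ Nat.card M) : M.index < m i ^ 2 := by
  classical
  have : Fact r.Prime := ⟨hr⟩
  let P : Sylow r M := default
  set S : Subgroup G := (P : Subgroup M).map M.subtype with hS
  have hSp : IsPGroup r S := P.2.map _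
  have hcard : Nat.card S = r ^ (Nat.card M).factorization r := by
    rw [hS, Nat.card_congr ((P : Subgroup M).equivMapOfInjective M.subtype
      M.subtype_injective).symm.toEquiv]
    exact P.card_eq_multiplicity
  have hS1 : 1 < Nat.card S := by
    rw [hcard]
    apply Nat.one_lt_pow _ hr.one_lt
    exact (hr.factorization_pos_of_dvd Nat.card_pos.ne' hrM).ne'
  have hSm : Nat.card S ∣ m i := by
    apply dvd_of_hall (h.dvd i) (h.hall i) (Subgroup.card_subgroup_dvd_card S)
    intro s hs hsM
    rw [hcard] at hsM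
    have := (Nat.prime_dvd_prime_iff_eq hs hr).1 (hs.dvd_of_dvd_pow hsM)
    rw [this]; exact hrm
  have hfrat : normalizer (S : Set G) ⊔ M = ⊤ := Sylow.normalizer_sup_eq_top P
  have h1 : M.index ∣ Nat.card (normalizer (S : Set G)) := by
    have h1 : M.relIndex (normalizer (S : Set G)) = M.index := by
      rw [← relIndex_sup_right, hfrat, relIndex_top_right]
    rw [← h1]
    exact relIndex_dvd_card _ _
  have h2 : Nat.card (normalizer (S : Set G)) < m i ^ 2 := by
    set N := normalizer (S : Set G) with hN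
    -- a nontrivial element of `S`
    have hSb : S ≠ ⊥ := by
      intro hb
      rw [hb, Subgroup.card_bot] at hS1
      exact absurd hS1 (lt_irrefl 1)
    obtain ⟨z, hzS, hz1⟩ := (Subgroup.ne_bot_iff_exists_ne_one.1 hSb |>.imp fun a ha => ha) |> fun ⟨a, ha⟩ =>
      (⟨a.1, a.2, fun h => ha (Subtype.ext h)⟩ : ∃ z, z ∈ S ∧ z ≠ 1)
    let Y := {v : G // v ∈ S ∧ v ≠ 1}
    have hn : ∀ a : N, ∀ v ∈ S, (a : G) * v * (a : G)⁻¹ ∈ S := fun a v hv =>
      (mem_normalizer_iff.mp a.2 v).mp hv
    let _act : MulAction N Y :=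
      { smul := fun a y => ⟨(a : G) * y.1 * (a : G)⁻¹, hn a _ y.2.1, fun h => y.2.2 (by
          have : y.1 = (a : G)⁻¹ * ((a : G) * y.1 * (a : G)⁻¹) * (a : G) := by group
          rw [this, h]; group)⟩
        one_smul := fun y => by
          apply Subtype.ext
          change ((1 : N) : G) * y.1 * ((1 : N) : G)⁻¹ = y.1
          simp
        mul_smul := fun a b y => by
          apply Subtype.ext
          change ((a * b : N) : G) * y.1 * ((a * b : N) : G)⁻¹
            = (a : G) * ((b : G) * y.1 * (b : G)⁻¹) * (a : G)⁻¹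
          rw [Subgroup.coe_mul]; group }
    have hY : Nat.card Y + 1 = Nat.card S := by
      have h4 : Nat.card Y = ((S : Set G) \ {1}).ncard := by
        rw [← Nat.card_coe_set_eq]
        rfl
      rw [h4, Set.ncard_sdiff_singleton_add_one (one_mem S) (Set.toFinite _)]
      exact (Nat.card_coe_set_eq _).symm
    let y : Y := ⟨z, hzS, hz1⟩
    have h3 : Nat.card N = Nat.card (MulAction.orbit N y) * Nat.card (MulAction.stabilizer N y) := by
      have := MulAction.index_stabilizer N y
      rw [← (MulAction.stabilizer N y).card_mul_index, this, Nat.mul_comm]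
      rw [Nat.card_coe_set_eq]
    have h4 : Nat.card (MulAction.orbit N y) ≤ Nat.card Y :=
      Nat.card_le_card_of_injective _ Subtype.val_injective
    have h5 : Nat.card (MulAction.stabilizer N y) ∣ m i := by
      have h6 : Nat.card ((MulAction.stabilizer N y).map N.subtype) ∣ m i := by
        apply h.card_centralizer_dvd hr hrm (z := z) ?_ hz1
        · rintro _ ⟨c, hc, rfl⟩
          have h7 : (c : G) * z * (c : G)⁻¹ = z := congrArg Subtype.val hc
          show z * (c : G) = (c : G) * z
          calc z * (c : G) = ((c : G) * z * (c : G)⁻¹) * (c : G) := by rw [h7]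
            _ = _ := by group
        · obtain ⟨k, hk⟩ := (IsPGroup.iff_orderOf.mp hSp) ⟨z, hzS⟩
          exact ⟨k, by rw [← hk, ← Subgroup.orderOf_coe]⟩
      rw [Nat.card_congr ((MulAction.stabilizer N y).equivMapOfInjective N.subtype
        N.subtype_injective).toEquiv]
      exact h6
    have hmi := h.one_lt i
    have h6 := Nat.le_of_dvd (by omega) h5
    have h7 := Nat.le_of_dvd (by omega) hSm
    calc Nat.card N = Nat.card (MulAction.orbit N y) * Nat.card (MulAction.stabilizer N y) := h3
      _ ≤ (m i - 1) * m i := Nat.mul_le_mul (by omega) h6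
      _ < m i ^ 2 := by
        rw [pow_two]
        exact Nat.mul_lt_mul_of_pos_right (by omega) (by omega)
  exact (Nat.le_of_dvd Nat.card_pos h1).trans_lt h2

end Cfsg.Agent.H416.Iso
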