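import Cfsg.Agent.H378.Regular
import Cfsg.Agent.H129.TorusChar
import Cfsg.Agent.S1093
import Cfsg.Agent.S1065
import Cfsg.Agent.H416.Iso
import Cfsg.Agent.H416.Arith2

/-!
# The tori of orders `Φ₁₅(q)`, `Φ₂₄(q)`, `Φ₃₀(q)` of `E₈(q)` are isolated (helper416)
-/

set_option autoImplicit false

namespace Cfsg.Agent.H416.E8Iso

open Cfsg Cfsg.Agent.H416.Iso Cfsg.Agent.H416.Arith Cfsg.Agent.H363.Frat

universe u

variable {F : Type u} [Field F] [Fintype F] {q : ℕ}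

theorem card_E8 (hF : Fintype.card F = q) : Nat.card ↥(Cfsg.Lie.chevE8.group F) = N q := by
  rw [S1065.result hF, N_eq]

theorem weyl_prime {ℓ : ℕ} (hℓ : ℓ.Prime) (h : ℓ ∣ 696729600) : ℓ = 2 ∨ ℓ = 3 ∨ ℓ = 5 ∨ ℓ = 7 := by
  rw [show (696729600 : ℕ) = 2 ^ 14 * 3 ^ 5 * 5 ^ 2 * 7 by norm_num] at h
  rcases (Nat.Prime.dvd_mul hℓ).1 h with h | h
  · rcases (Nat.Prime.dvd_mul hℓ).1 h with h | h
    · rcases (Nat.Prime.dvd_mul hℓ).1 h with h | h
      · exact Or.inl ((Nat.prime_dvd_prime_iff_eq hℓ Nat.prime_two).1 (hℓ.dvd_of_dvd_pow h))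
      · exact Or.inr (Or.inl ((Nat.prime_dvd_prime_iff_eq hℓ Nat.prime_three).1 (hℓ.dvd_of_dvd_pow h)))
    · exact Or.inr (Or.inr (Or.inl ((Nat.prime_dvd_prime_iff_eq hℓ Nat.prime_five).1 (hℓ.dvd_of_dvd_pow h))))
  · exact Or.inr (Or.inr (Or.inr ((Nat.prime_dvd_prime_iff_eq hℓ (by norm_num)).1 h)))

/-- the centraliser of an element of prime order `ℓ ∣ mm q i` has order `mm q i` -/
theorem card_centralizer (hF : Fintype.card F = q) {i : Fin 3} {ℓ : ℕ} (hℓ : ℓ.Prime) (h : ℓ ∣ mm q i)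
    {x : ↥(Cfsg.Lie.chevE8.group F)} (hx : orderOf x = ℓ) :
    Nat.card ↥(Subgroup.centralizer {x}) = mm q i := by
  have hq2 : 2 ≤ q := by rw [← hF]; exact Fintype.one_lt_card
  have hp : Cfsg.Agent.Nodes.RGDChev.IsType Cfsg.Lie.chevE8 8 CoxeterMatrix.E₈ := by simp
  have hW : Nat.card CoxeterMatrix.E₈.Group = 696729600 :=
    Cfsg.Agent.S1093.result (⟨8, CoxeterMatrix.E₈⟩, 696729600) (by simp)
  have : Finite CoxeterMatrix.E₈.Group := Nat.finite_of_card_ne_zero (by rw [hW]; norm_num)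
  have hNF : Nat.card F = q := by rw [Nat.card_eq_fintype_card, hF]
  have h1 := Cfsg.Agent.H378.Regular.centralizer_fin hp CoxeterMatrix.E₈.toCoxeterSystem
    Cfsg.Agent.H129.TorusChar.invC_E8 (F := F) (x := x) hℓ (by rw [hNF]; exact base_mm hq2 hℓ h) hx
    (by rw [hW]; exact fun h2 => prime_mm h (weyl_prime hℓ h2)) (m := ix i) (ix_pos i)
    (by fin_cases i <;> decide) (not_dvd_ix hℓ h i)
    (by rw [hNF, ← cast_c _ hq2, ← mm_eq]; exact_mod_cast h)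
  rw [h1.2.1, hNF, mm_eq]
  rfl

/-- **the three tori are isolated** -/
theorem isol_E8 (hF : Fintype.card F = q) (i : Fin 3) : Isol ↥(Cfsg.Lie.chevE8.group F) (mm q i) := by
  intro r s hr hs hrm hsm g hg
  have hx : orderOf (g ^ s) = r := by
    rw [orderOf_pow' g hs.ne_zero, hg, Nat.gcd_eq_right (Dvd.intro_left r rfl)]
    exact Nat.mul_div_cancel _ hs.pos
  have h1 := card_centralizer hF hr hrm hx
  have h2 : g ∈ Subgroup.centralizer {g ^ s} := by
    rw [Subgroup.mem_centralizer_singleton_iff]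
    exact (Commute.pow_self g s).eq.symm
  have h3 : orderOf (⟨g, h2⟩ : ↥(Subgroup.centralizer {g ^ s})) ∣ Nat.card ↥(Subgroup.centralizer {g ^ s}) :=
    orderOf_dvd_natCard _
  rw [← Subgroup.orderOf_coe, h1] at h3
  simp only at h3
  rw [hg] at h3
  exact hsm ((Dvd.intro_left r rfl).trans h3)

end Cfsg.Agent.H416.E8Iso
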