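import Cfsg.Agent.H437.Spor

/-!
# The primes dividing the order of a sporadic group or the Tits group are at most 71 (helper416)
-/

set_option autoImplicit false

namespace Cfsg.Agent.H416.SporPrimes

open Cfsg Cfsg.Agent.H437

theorem dvd_factorial : ∀ N ∈ sporList, N ∣ Nat.factorial 71 := by decide +kernel

theorem prime_le {G : Type*} [Group G] (h : Lie.IsoTits G ∨ IsSporadicGroup G) {r : ℕ} (hr : r.Prime)
    (hrG : r ∣ Nat.card G) : r ≤ 71 :=
  hr.dvd_factorial.1 (hrG.trans (dvd_factorial _ (spor_mem h)))

end Cfsg.Agent.H416.SporPrimes
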