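import Mathlib
import Cfsg.Agent.Lib.Zsigmondy
import Cfsg.Agent.H437.Code
import Cfsg.Agent.H416.Arith2

/-!
# Orders of groups of Lie type and primitive prime divisors (helper416)

`Ex T b`: `b` is an exponent of type `T`; `top T`: the largest exponent.

* `exists_ex`: a prime dividing the `p'`-part of the order divides `p ^ (k b) - 1` for an exponent `b`;
* `top_dvd`: a primitive prime divisor of `p ^ (k * top T) - 1` divides the order;
* `only_E8`: the exponents `24 f`, `30 f`, and the size of the `p`-part determine `E₈(p ^ f)`.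
-/

set_option autoImplicit false

namespace Cfsg.Agent.H416.LieArith

open Cfsg.Agent.H437 Finset

/-- the exponents: every prime factor of the `p'`-part of the order divides `q ^ b - 1` for an exponent `b` -/
def Ex : LT → ℕ → Prop
  | .A n, b => 2 ≤ b ∧ b ≤ n
  | .U n, b => ∃ i, 2 ≤ i ∧ i ≤ n ∧ ((Even i ∧ b = i) ∨ (Odd i ∧ b = 2 * i))
  | .C m, b => ∃ i, 1 ≤ i ∧ i ≤ m ∧ b = 2 * i
  | .P m, b => b = m ∨ ∃ i, 1 ≤ i ∧ i ≤ m - 1 ∧ b = 2 * i
  | .M m, b => b = 2 * m ∨ ∃ i, 1 ≤ i ∧ i ≤ m - 1 ∧ b = 2 * i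
  | .G2, b => b = 2 ∨ b = 6
  | .F4, b => b = 2 ∨ b = 6 ∨ b = 8 ∨ b = 12
  | .E6, b => b = 2 ∨ b = 5 ∨ b = 6 ∨ b = 8 ∨ b = 9 ∨ b = 12
  | .E7, b => b = 2 ∨ b = 6 ∨ b = 8 ∨ b = 10 ∨ b = 12 ∨ b = 14 ∨ b = 18
  | .E8, b => b = 2 ∨ b = 8 ∨ b = 12 ∨ b = 14 ∨ b = 18 ∨ b = 20 ∨ b = 24 ∨ b = 30
  | .TE6, b => b = 2 ∨ b = 10 ∨ b = 6 ∨ b = 8 ∨ b = 18 ∨ b = 12
  | .TD4, b => b = 2 ∨ b = 6 ∨ b = 12
  | .Sz, b => b = 1 ∨ b = 4
  | .Ree, b => b = 1 ∨ b = 6
  | .TF4, b => b = 1 ∨ b = 6 ∨ b = 4 ∨ b = 12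

/-- the largest exponent -/
def top : LT → ℕ
  | .A n => n
  | .U n => if Even n then 2 * (n - 1) else 2 * n
  | .C m => 2 * m
  | .P m => 2 * (m - 1)
  | .M m => 2 * m
  | .G2 => 6
  | .F4 => 12
  | .E6 => 12
  | .E7 => 18
  | .E8 => 30
  | .TE6 => 18
  | .TD4 => 12
  | .Sz => 4
  | .Ree => 6
  | .TF4 => 12

theorem dvd_minus {r p k i : ℕ} (h : r ∣ (p ^ k) ^ i - 1) : r ∣ p ^ (k * i) - 1 := by rwa [pow_mul]

theorem dvd_plus {r p k i : ℕ} (h : r ∣ (p ^ k) ^ i + 1) : r ∣ p ^ (k * (2 * i)) - 1 := by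
  have h1 : p ^ (k * (2 * i)) - 1 = ((p ^ k) ^ i + 1) * ((p ^ k) ^ i - 1) := by
    have e : p ^ (k * (2 * i)) = ((p ^ k) ^ i) ^ 2 := by rw [← pow_mul, ← pow_mul]; ring_nf
    rw [e]
    have := Nat.sq_sub_sq ((p ^ k) ^ i) 1
    rw [one_pow] at this
    exact this
  rw [h1]
  exact h.mul_right _

theorem dvd_d4 {r p k : ℕ} (hp : 1 ≤ p) (h : r ∣ (p ^ k) ^ 8 + (p ^ k) ^ 4 + 1) : r ∣ p ^ (k * 12) - 1 := by
  have h1 : p ^ (k * 12) - 1 = ((p ^ k) ^ 4 - 1) * ((p ^ k) ^ 8 + (p ^ k) ^ 4 + 1) := by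
    have h0 : 1 ≤ (p ^ k) ^ 4 := Nat.one_le_pow _ _ (Nat.pow_pos hp)
    have h2 : 1 ≤ p ^ (k * 12) := Nat.one_le_pow _ _ hp
    zify [h0, h2]
    rw [pow_mul]
    ring
  rw [h1]
  exact h.mul_left _

theorem exists_ex {T : LT} {p k r : ℕ} (hp : p.Prime) (hr : r.Prime) (h : r ∣ T.cof (p ^ k)) :
    ∃ b, Ex T b ∧ r ∣ p ^ (k * b) - 1 := by
  have hp1 : 1 ≤ p := hp.one_le
  cases T with
  | A n =>
    obtain ⟨i, hi, h⟩ := (Prime.dvd_finsetProd_iff hr.prime _).1 h
    rw [mem_range] at hi
    exact ⟨i + 2, ⟨by omega, by omega⟩, dvd_minus h⟩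
  | U n =>
    obtain ⟨i, hi, h⟩ := (Prime.dvd_finsetProd_iff hr.prime _).1 h
    rw [mem_range] at hi
    by_cases hev : Even i
    · rw [if_pos hev] at h
      exact ⟨i + 2, ⟨i + 2, by omega, by omega, Or.inl ⟨by rw [Nat.even_add]; simp [hev], rfl⟩⟩, dvd_minus h⟩
    · rw [if_neg hev] at h
      exact ⟨2 * (i + 2), ⟨i + 2, by omega, by omega, Or.inr ⟨by
        rw [← Nat.not_even_iff_odd, Nat.even_add]; simp [hev], rfl⟩⟩, dvd_plus h⟩
  | C m =>
    obtain ⟨i, hi, h⟩ := (Prime.dvd_finsetProd_iff hr.prime _).1 h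
    rw [mem_range] at hi
    exact ⟨2 * (i + 1), ⟨i + 1, by omega, by omega, rfl⟩, dvd_minus h⟩
  | P m =>
    rcases (Nat.Prime.dvd_mul hr).1 h with h | h
    · exact ⟨m, Or.inl rfl, dvd_minus h⟩
    · obtain ⟨i, hi, h⟩ := (Prime.dvd_finsetProd_iff hr.prime _).1 h
      rw [mem_range] at hi
      exact ⟨2 * (i + 1), Or.inr ⟨i + 1, by omega, by omega, rfl⟩, dvd_minus h⟩
  | M m =>
    rcases (Nat.Prime.dvd_mul hr).1 h with h | h
    · exact ⟨2 * m, Or.inl rfl, dvd_plus h⟩
    · obtain ⟨i, hi, h⟩ := (Prime.dvd_finsetProd_iff hr.prime _).1 h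
      rw [mem_range] at hi
      exact ⟨2 * (i + 1), Or.inr ⟨i + 1, by omega, by omega, rfl⟩, dvd_minus h⟩
  | G2 =>
    simp only [LT.cof, Nat.Prime.dvd_mul hr] at h
    rcases h with h | h
    · exact ⟨_, by simp [Ex], dvd_minus h⟩
    · exact ⟨_, by simp [Ex], dvd_minus h⟩
  | F4 =>
    simp only [LT.cof, Nat.Prime.dvd_mul hr] at h
    rcases h with ((h | h) | h) | h <;> exact ⟨_, by simp [Ex], dvd_minus h⟩
  | E6 =>
    simp only [LT.cof, Nat.Prime.dvd_mul hr] at h
    rcases h with ((((h | h) | h) | h) | h) | h <;> exact ⟨_, by simp [Ex], dvd_minus h⟩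
  | E7 =>
    simp only [LT.cof, Nat.Prime.dvd_mul hr] at h
    rcases h with (((((h | h) | h) | h) | h) | h) | h <;> exact ⟨_, by simp [Ex], dvd_minus h⟩
  | E8 =>
    simp only [LT.cof, Nat.Prime.dvd_mul hr] at h
    rcases h with ((((((h | h) | h) | h) | h) | h) | h) | h <;> exact ⟨_, by simp [Ex], dvd_minus h⟩
  | TE6 =>
    simp only [LT.cof, Nat.Prime.dvd_mul hr] at h
    rcases h with ((((h | h) | h) | h) | h) | h
    · exact ⟨_, by simp [Ex], dvd_minus h⟩
    · exact ⟨_, by simp [Ex], dvd_plus h⟩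
    · exact ⟨_, by simp [Ex], dvd_minus h⟩
    · exact ⟨_, by simp [Ex], dvd_minus h⟩
    · exact ⟨_, by simp [Ex], dvd_plus h⟩
    · exact ⟨_, by simp [Ex], dvd_minus h⟩
  | TD4 =>
    simp only [LT.cof, Nat.Prime.dvd_mul hr] at h
    rcases h with (h | h) | h
    · exact ⟨_, by simp [Ex], dvd_minus h⟩
    · exact ⟨_, by simp [Ex], dvd_minus h⟩
    · exact ⟨_, by simp [Ex], dvd_d4 hp1 h⟩
  | Sz =>
    simp only [LT.cof, Nat.Prime.dvd_mul hr] at h
    rcases h with h | h
    · exact ⟨1, by simp [Ex], dvd_minus (by rwa [pow_one])⟩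
    · exact ⟨_, by simp [Ex], dvd_plus h⟩
  | Ree =>
    simp only [LT.cof, Nat.Prime.dvd_mul hr] at h
    rcases h with h | h
    · exact ⟨1, by simp [Ex], dvd_minus (by rwa [pow_one])⟩
    · exact ⟨_, by simp [Ex], dvd_plus h⟩
  | TF4 =>
    simp only [LT.cof, Nat.Prime.dvd_mul hr] at h
    rcases h with ((h | h) | h) | h
    · exact ⟨1, by simp [Ex], dvd_minus (by rwa [pow_one])⟩
    · exact ⟨_, by simp [Ex], dvd_plus h⟩
    · exact ⟨_, by simp [Ex], dvd_minus h⟩
    · exact ⟨_, by simp [Ex], dvd_plus h⟩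

/-- `r` is a primitive prime divisor of `p ^ e - 1` -/
def Prim (p e r : ℕ) : Prop := r.Prime ∧ ∀ j, r ∣ p ^ j - 1 ↔ e ∣ j

theorem Prim.not_dvd_p {p e r : ℕ} (h : Prim p e r) (he : 0 < e) (hp : 1 ≤ p) : ¬ r ∣ p := by
  intro hr
  have h1 := (h.2 e).2 (dvd_refl e)
  have h2 : r ∣ p ^ e := hr.trans (dvd_pow_self p he.ne')
  have h3 : 1 ≤ p ^ e := Nat.one_le_pow _ _ hp
  have h4 := Nat.dvd_sub h2 h1
  rw [Nat.sub_sub_self h3] at h4
  exact h.1.one_lt.ne' (Nat.dvd_one.1 h4)

theorem dvd_of_dd {T : LT} {p k r : ℕ} (hr : r.Prime) (h : r ∣ T.dd (p ^ k)) : r ∣ p ^ (k * 2) - 1 ∨ r = 2 := by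
  have h2 : ∀ x, r ∣ Nat.gcd 4 x → r = 2 := by
    intro x h
    have h1 : r ∣ 2 ^ 2 := h.trans (Nat.gcd_dvd_left 4 _)
    exact (Nat.prime_dvd_prime_iff_eq hr Nat.prime_two).1 (hr.dvd_of_dvd_pow h1)
  have h3 : ∀ x, r ∣ Nat.gcd 2 x → r = 2 := by
    intro x h
    exact (Nat.prime_dvd_prime_iff_eq hr Nat.prime_two).1 (h.trans (Nat.gcd_dvd_left 2 _))
  have hm : r ∣ p ^ k - 1 → r ∣ p ^ (k * 2) - 1 := by
    intro h
    refine h.trans ?_
    rw [pow_mul]
    have := Nat.sub_dvd_pow_sub_pow (p ^ k) 1 2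
    rwa [one_pow] at this
  have hpl : r ∣ p ^ k + 1 → r ∣ p ^ (k * 2) - 1 := by
    intro h
    have := dvd_plus (r := r) (p := p) (k := k) (i := 1) (by rwa [pow_one])
    rwa [mul_one] at this
  have hone : r ∣ 1 → False := fun h => hr.one_lt.ne' (Nat.dvd_one.1 h)
  cases T with
  | A n => exact Or.inl (hm (h.trans (Nat.gcd_dvd_right _ _)))
  | U n => exact Or.inl (hpl (h.trans (Nat.gcd_dvd_right _ _)))
  | C m => exact Or.inr (h3 _ h)
  | P m => exact Or.inr (h2 _ h)
  | M m => exact Or.inr (h2 _ h)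
  | G2 => exact (hone h).elim
  | F4 => exact (hone h).elim
  | E6 => exact Or.inl (hm (h.trans (Nat.gcd_dvd_right _ _)))
  | E7 => exact Or.inr (h3 _ h)
  | E8 => exact (hone h).elim
  | TE6 => exact Or.inl (hpl (h.trans (Nat.gcd_dvd_right _ _)))
  | TD4 => exact (hone h).elim
  | Sz => exact (hone h).elim
  | Ree => exact (hone h).elim
  | TF4 => exact (hone h).elim

/-- a primitive prime divisor of the order: its exponent divides `k b`, `b` an exponent of the type -/
theorem exists_of_dvd {T : LT} {p k M e r : ℕ} (hO : IsOrd T p k M) (hr : Prim p e r) (he : 0 < e) (h : r ∣ M) :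
    ∃ b, Ex T b ∧ e ∣ k * b := by
  have h1 : r ∣ (p ^ k) ^ T.expo * T.cof (p ^ k) := by
    rw [← hO.eq]; exact h.mul_left _
  rcases (Nat.Prime.dvd_mul hr.1).1 h1 with h2 | h2
  · exact absurd (hr.1.dvd_of_dvd_pow (hr.1.dvd_of_dvd_pow h2)) (hr.not_dvd_p he hO.prime.one_le)
  · obtain ⟨b, hb, h3⟩ := exists_ex hO.prime hr.1 h2
    exact ⟨b, hb, (hr.2 _).1 h3⟩

theorem prim_plus {p k a r : ℕ} (hk : 0 < k) (ha : 0 < a) (hr : Prim p (k * (2 * a)) r) : r ∣ (p ^ k) ^ a + 1 := by
  have h1 := (hr.2 _).2 (dvd_refl _)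
  have h2 : p ^ (k * (2 * a)) - 1 = ((p ^ k) ^ a + 1) * ((p ^ k) ^ a - 1) := by
    have e : p ^ (k * (2 * a)) = ((p ^ k) ^ a) ^ 2 := by rw [← pow_mul, ← pow_mul]; ring_nf
    rw [e]
    have := Nat.sq_sub_sq ((p ^ k) ^ a) 1
    rw [one_pow] at this
    exact this
  rw [h2] at h1
  rcases (Nat.Prime.dvd_mul hr.1).1 h1 with h | h
  · exact h
  · exfalso
    have h3 := (hr.2 _).1 (dvd_minus h)
    have h4 := Nat.le_of_dvd (Nat.mul_pos hk ha) h3
    have h5 : k * a < k * (2 * a) := Nat.mul_lt_mul_of_pos_left (by omega) hk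
    omega

theorem prim_minus {p k a r : ℕ} (hr : Prim p (k * a) r) : r ∣ (p ^ k) ^ a - 1 := by
  rw [← pow_mul]
  exact (hr.2 _).2 (dvd_refl _)

theorem prim_d4 {p k r : ℕ} (hp : 1 ≤ p) (hk : 0 < k) (hr : Prim p (k * 12) r) :
    r ∣ (p ^ k) ^ 8 + (p ^ k) ^ 4 + 1 := by
  have h1 := (hr.2 _).2 (dvd_refl _)
  have h2 : p ^ (k * 12) - 1 = ((p ^ k) ^ 4 - 1) * ((p ^ k) ^ 8 + (p ^ k) ^ 4 + 1) := by
    have h0 : 1 ≤ (p ^ k) ^ 4 := Nat.one_le_pow _ _ (Nat.pow_pos hp)
    have h2 : 1 ≤ p ^ (k * 12) := Nat.one_le_pow _ _ hp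
    zify [h0, h2]
    rw [pow_mul]
    ring
  rw [h2] at h1
  rcases (Nat.Prime.dvd_mul hr.1).1 h1 with h | h
  · exfalso
    have h3 := (hr.2 _).1 (dvd_minus h)
    have h4 := Nat.le_of_dvd (by omega) h3
    omega
  · exact h

/-- primitive prime divisors for the largest exponent divide the cofactor -/
theorem top_dvd_cof {T : LT} {p k r : ℕ} (hp : p.Prime) (hk : 0 < k) (hv : T.Valid p k) (hr : Prim p (k * top T) r) :
    r ∣ T.cof (p ^ k) := by
  cases T with
  | A n =>
    obtain ⟨n, rfl⟩ := Nat.exists_eq_add_of_le' hv.1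
    have h := prim_minus hr
    exact h.trans (dvd_prod_of_mem (fun i => (p ^ k) ^ (i + 2) - 1) (mem_range.2 (show n < n + 2 - 1 by omega)))
  | U n =>
    have hn := hv.1
    by_cases hev : Even n
    · have e : top (.U n) = 2 * (n - 1) := if_pos hev
      rw [e] at hr
      have h := prim_plus hk (by omega) hr
      have h2 : ¬ Even (n - 3) := by
        rw [Nat.not_even_iff_odd]
        exact Nat.Even.sub_odd hn hev (by decide)
      have h3 := dvd_prod_of_mem (fun i => (if Even i then (p ^ k) ^ (i + 2) - 1 else (p ^ k) ^ (i + 2) + 1))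
        (mem_range.2 (show n - 3 < n - 1 by omega))
      rw [if_neg h2] at h3
      have e2 : n - 3 + 2 = n - 1 := by omega
      rw [e2] at h3
      exact h.trans h3
    · have e : top (.U n) = 2 * n := if_neg hev
      rw [e] at hr
      have h := prim_plus hk (by omega) hr
      have hodd : Odd n := Nat.not_even_iff_odd.1 hev
      have h2 : ¬ Even (n - 2) := by
        rw [Nat.not_even_iff_odd]
        exact Nat.Odd.sub_even (by omega) hodd (by decide)
      have h3 := dvd_prod_of_mem (fun i => (if Even i then (p ^ k) ^ (i + 2) - 1 else (p ^ k) ^ (i + 2) + 1))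
        (mem_range.2 (show n - 2 < n - 1 by omega))
      rw [if_neg h2] at h3
      have e2 : n - 2 + 2 = n := by omega
      rw [e2] at h3
      exact h.trans h3
  | C m =>
    have hm : 2 ≤ m := hv.1
    have h := prim_minus hr
    have h3 := dvd_prod_of_mem (fun i => (p ^ k) ^ (2 * (i + 1)) - 1) (mem_range.2 (show m - 1 < m by omega))
    have e : m - 1 + 1 = m := by omega
    rw [e] at h3
    exact h.trans h3
  | P m =>
    have hm : 4 ≤ m := hv
    have h := prim_minus hr
    have h3 := dvd_prod_of_mem (fun i => (p ^ k) ^ (2 * (i + 1)) - 1) (mem_range.2 (show m - 2 < m - 1 by omega))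
    have e : m - 2 + 1 = m - 1 := by omega
    rw [e] at h3
    exact (h.trans h3).mul_left _
  | M m =>
    have hm : 4 ≤ m := hv
    exact (prim_plus hk (by omega) hr).mul_right _
  | G2 => exact (prim_minus hr).mul_left _
  | F4 => exact (prim_minus hr).mul_left _
  | E6 => exact (prim_minus hr).mul_left _
  | E7 => exact (prim_minus hr).mul_left _
  | E8 => exact (prim_minus hr).mul_left _
  | TE6 => exact ((prim_plus (a := 9) hk (by norm_num) hr).mul_left _).mul_right _
  | TD4 => exact (prim_d4 hp.one_le hk hr).mul_left _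
  | Sz => exact (prim_plus (a := 2) hk (by norm_num) hr).mul_left _
  | Ree => exact (prim_plus (a := 3) hk (by norm_num) hr).mul_left _
  | TF4 => exact (prim_plus (a := 6) hk (by norm_num) hr).mul_left _

theorem Prim.mod {p e r : ℕ} (hr : Prim p e r) (hp : 1 ≤ p) (he : 0 < e) : e ∣ r - 1 := by
  rw [← hr.2]
  have : Fact r.Prime := ⟨hr.1⟩
  have h1 := hr.not_dvd_p he hp
  rw [Cfsg.Agent.Lib.Zsigmondy.dvd_pow_sub_one_iff hp]
  exact Cfsg.Agent.Lib.Zsigmondy.orderOf_dvd_pred hr.1 h1

theorem top_dvd {T : LT} {p k M r : ℕ} (hO : IsOrd T p k M) (h3 : 2 < top T) (hr : Prim p (k * top T) r) : r ∣ M := by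
  have hk : 0 < k := Nat.pos_of_ne_zero hO.f_ne
  have he : 0 < k * top T := Nat.mul_pos hk (by omega)
  have h1 := top_dvd_cof hO.prime hk hO.valid hr
  have h2 : r ∣ T.dd (p ^ k) * M := by rw [hO.eq]; exact h1.mul_left _
  rcases (Nat.Prime.dvd_mul hr.1).1 h2 with h | h
  · exfalso
    rcases dvd_of_dd hr.1 h with h | h
    · have h4 := (hr.2 _).1 h
      have h5 := Nat.le_of_dvd (by omega) h4
      have h6 : k * 2 < k * top T := Nat.mul_lt_mul_of_pos_left h3 hk
      omega
    · have h4 := Nat.le_of_dvd (by rw [h]; norm_num) (hr.mod hO.prime.one_le he)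
      rw [h] at h4
      have h6 : k * 2 < k * top T := Nat.mul_lt_mul_of_pos_left h3 hk
      omega
  · exact h

theorem top_dvd' {T : LT} {p k M r : ℕ} (hO : IsOrd T p k M) (h7 : 7 ≤ k * top T) (hr : Prim p (k * top T) r) :
    r ∣ M := by
  by_cases h3 : 2 < top T
  · exact top_dvd hO h3 hr
  have hk : 0 < k := Nat.pos_of_ne_zero hO.f_ne
  have h2 : T = .A 2 := by
    have hv := hO.valid
    cases T with
    | A n =>
      have h4 : 2 ≤ n := hv.1
      have h5 : ¬ 2 < n := h3
      have : n = 2 := by omega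
      rw [this]
    | U n =>
      exfalso
      have h4 : 3 ≤ n := hv.1
      apply h3
      show 2 < if Even n then 2 * (n - 1) else 2 * n
      split_ifs <;> omega
    | C m =>
      exfalso
      have h4 : 2 ≤ m := hv.1
      apply h3
      show 2 < 2 * m
      omega
    | P m =>
      exfalso
      have h4 : 4 ≤ m := hv
      apply h3
      show 2 < 2 * (m - 1)
      omega
    | M m =>
      exfalso
      have h4 : 4 ≤ m := hv
      apply h3
      show 2 < 2 * m
      omega
    | G2 => exact absurd (by decide) h3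
    | F4 => exact absurd (by decide) h3
    | E6 => exact absurd (by decide) h3
    | E7 => exact absurd (by decide) h3
    | E8 => exact absurd (by decide) h3
    | TE6 => exact absurd (by decide) h3
    | TD4 => exact absurd (by decide) h3
    | Sz => exact absurd (by decide) h3
    | Ree => exact absurd (by decide) h3
    | TF4 => exact absurd (by decide) h3
  subst h2
  have he : 0 < k * top (.A 2) := by omega
  have h1 := top_dvd_cof hO.prime hk hO.valid hr
  have h2 : r ∣ LT.dd (.A 2) (p ^ k) * M := by rw [hO.eq]; exact h1.mul_left _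
  rcases (Nat.Prime.dvd_mul hr.1).1 h2 with h | h
  · exfalso
    have h5 : r ∣ 2 := h.trans (Nat.gcd_dvd_left _ _)
    have h6 := (Nat.prime_dvd_prime_iff_eq hr.1 Nat.prime_two).1 h5
    have h4 := Nat.le_of_dvd (by rw [h6]; norm_num) (hr.mod hO.prime.one_le he)
    rw [h6] at h4
    omega
  · exact h

theorem exists_prim {p e : ℕ} (hp : p.Prime) (he : 7 ≤ e) : ∃ r, Prim p e r := by
  obtain ⟨r, h1, h2, -, -⟩ := Cfsg.Agent.Lib.Zsigmondy.exists_primitive (a := p) (n := e) hp.two_le (by omega)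
    (by intro h; omega) (by rintro ⟨-, h⟩; omega)
  exact ⟨r, h1, h2⟩

theorem eq_thirty {f x : ℕ} (h : 30 * f ∣ x) (hx : 0 < x) (hle : x ≤ 30 * f) : x = 30 * f :=
  le_antisymm hle (Nat.le_of_dvd hx h)

theorem eq_twentyfour {f x : ℕ} (h : 24 * f ∣ x) (hx : 0 < x) (hle : x ≤ 30 * f) : x = 24 * f := by
  obtain ⟨c, rfl⟩ := h
  have hf : 0 < f := by
    rcases Nat.eq_zero_or_pos f with rfl | h
    · simp at hx
    · exact h
  have hc : c ≠ 0 := by rintro rfl; simp at hx
  have hc2 : c < 2 := by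
    by_contra hlt
    have : 24 * f * 2 ≤ 24 * f * c := Nat.mul_le_mul_left _ (by omega)
    omega
  have : c = 1 := by omega
  rw [this, mul_one]

theorem only_E8 {T : LT} {p k M f : ℕ} (hO : IsOrd T p k M) (hf : 0 < f) (hlo : 104 * f < k * T.expo)
    (hhi : k * T.expo ≤ 120 * f) (htop : k * top T ≤ 30 * f) (h30 : ∃ b, Ex T b ∧ 30 * f ∣ k * b)
    (h24 : ∃ b, Ex T b ∧ 24 * f ∣ k * b) : T = .E8 ∧ k = f := by
  have hk : 0 < k := Nat.pos_of_ne_zero hO.f_ne
  obtain ⟨b, hb, h30⟩ := h30
  obtain ⟨b', hb', h24⟩ := h24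
  have hv := hO.valid
  cases T with
  | A n =>
    exfalso
    obtain ⟨hb1, hb2⟩ := hb
    obtain ⟨hb1', hb2'⟩ := hb'
    have ht : k * n ≤ 30 * f := htop
    have e1 := eq_thirty h30 (Nat.mul_pos hk (by omega)) ((Nat.mul_le_mul_left k hb2).trans ht)
    have e2 := eq_twentyfour h24 (Nat.mul_pos hk (by omega)) ((Nat.mul_le_mul_left k hb2').trans ht)
    have e3 : k * n = 30 * f := by
      have := Nat.mul_le_mul_left k hb2
      omega
    have hex : 2 * (k * (n * (n - 1) / 2)) = 30 * f * (n - 1) := by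
      have h5 : 2 * (n * (n - 1) / 2) = n * (n - 1) := Nat.mul_div_cancel' (Nat.even_mul_pred_self n).two_dvd
      rw [mul_left_comm, h5, ← e3]; ring
    have hlo' : 104 * f < k * (n * (n - 1) / 2) := hlo
    have hhi' : k * (n * (n - 1) / 2) ≤ 120 * f := hhi
    have h8 : n - 1 ≤ 8 := by
      by_contra h
      have : 30 * f * 9 ≤ 30 * f * (n - 1) := Nat.mul_le_mul_left _ (by omega)
      omega
    have h7 : 7 ≤ n - 1 := by
      by_contra h
      have : 30 * f * (n - 1) ≤ 30 * f * 6 := Nat.mul_le_mul_left _ (by omega)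
      omega
    have hn : n = 8 ∨ n = 9 := by omega
    have hb9 : b' ≤ 9 := by omega
    rcases hn with rfl | rfl <;> interval_cases b' <;> omega
  | U n =>
    exfalso
    have hn3 : 3 ≤ n := hv.1
    have hlo' : 104 * f < k * (n * (n - 1) / 2) := hlo
    have hhi' : k * (n * (n - 1) / 2) ≤ 120 * f := hhi
    have h5 : 2 * (n * (n - 1) / 2) = n * (n - 1) := Nat.mul_div_cancel' (Nat.even_mul_pred_self n).two_dvd
    have hex : 2 * (k * (n * (n - 1) / 2)) = k * (n * (n - 1)) := by rw [mul_left_comm, h5]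
    obtain ⟨i, hi2, hin, hi⟩ := hb
    obtain ⟨i', hi2', hin', hi'⟩ := hb'
    by_cases hev : Even n
    · have ht : k * (2 * (n - 1)) ≤ 30 * f := by
        have : top (.U n) = 2 * (n - 1) := if_pos hev
        rw [this] at htop; exact htop
      have hn4 : 4 ≤ n := by
        rcases Nat.lt_or_ge n 4 with h | h
        · exfalso
          have : n = 3 := by omega
          rw [this] at hev
          exact absurd hev (by decide)
        · exact h
      have e3 : k * (n - 1) = 15 * f := by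
        rcases hi with ⟨hie, rfl⟩ | ⟨hio, rfl⟩
        · exfalso
          have h6 := Nat.le_of_dvd (Nat.mul_pos hk (by omega)) h30
          have h7 : k * b < k * (2 * (n - 1)) := Nat.mul_lt_mul_of_pos_left (by omega) hk
          omega
        · have hin1 : i ≤ n - 1 := by
            rcases Nat.lt_or_ge i n with h | h
            · omega
            · exfalso
              have : i = n := by omega
              rw [this] at hio
              exact (Nat.not_even_iff_odd.2 hio) hev
          have h6 := Nat.le_of_dvd (Nat.mul_pos hk (by omega)) h30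
          have h7 : k * (2 * i) ≤ k * (2 * (n - 1)) := Nat.mul_le_mul_left _ (by omega)
          have h8 : k * (2 * (n - 1)) = 2 * (k * (n - 1)) := by ring
          omega
      have hex2 : k * (n * (n - 1)) = 15 * f * n := by
        rw [← e3]; ring
      have h16 : n ≤ 16 := by
        by_contra h
        have : 15 * f * 17 ≤ 15 * f * n := Nat.mul_le_mul_left _ (by omega)
        omega
      have h14 : 14 ≤ n := by
        by_contra h
        have : 15 * f * n ≤ 15 * f * 13 := Nat.mul_le_mul_left _ (by omega)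
        omega
      have hn : n = 14 ∨ n = 15 ∨ n = 16 := by omega
      rcases hi' with ⟨hie, rfl⟩ | ⟨hio, rfl⟩
      · have h6 := Nat.le_of_dvd (Nat.mul_pos hk (by omega)) h24
        have h7 : k * b' ≤ k * n := Nat.mul_le_mul_left _ hin'
        rcases hn with rfl | rfl | rfl <;> omega
      · have h8 : k * (2 * i') ≤ k * (2 * (n - 1)) := by
          apply Nat.mul_le_mul_left
          rcases Nat.lt_or_ge i' n with h | h
          · omega
          · exfalso
            have : i' = n := by omega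
            rw [this] at hio
            exact (Nat.not_even_iff_odd.2 hio) hev
        have e2 := eq_twentyfour h24 (Nat.mul_pos hk (by omega)) (h8.trans ht)
        have hi16 : i' ≤ 16 := by omega
        rcases hn with rfl | rfl | rfl
        · interval_cases i' <;> omega
        · exact absurd hev (by decide)
        · interval_cases i' <;> first | omega | exact absurd hio (by decide)
    · have hodd : Odd n := Nat.not_even_iff_odd.1 hev
      have ht : k * (2 * n) ≤ 30 * f := by
        have : top (.U n) = 2 * n := if_neg hev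
        rw [this] at htop; exact htop
      have e3 : k * n = 15 * f := by
        rcases hi with ⟨hie, rfl⟩ | ⟨hio, rfl⟩
        · exfalso
          have h6 := Nat.le_of_dvd (Nat.mul_pos hk (by omega)) h30
          have h7 : k * b < k * (2 * n) := Nat.mul_lt_mul_of_pos_left (by omega) hk
          omega
        · have h6 := Nat.le_of_dvd (Nat.mul_pos hk (by omega)) h30
          have h7 : k * (2 * i) ≤ k * (2 * n) := Nat.mul_le_mul_left _ (by omega)
          have h8 : k * (2 * n) = 2 * (k * n) := by ring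
          omega
      have hex2 : k * (n * (n - 1)) = 15 * f * (n - 1) := by
        rw [← e3]; ring
      have h16 : n - 1 ≤ 16 := by
        by_contra h
        have : 15 * f * 17 ≤ 15 * f * (n - 1) := Nat.mul_le_mul_left _ (by omega)
        omega
      have h14 : 14 ≤ n - 1 := by
        by_contra h
        have : 15 * f * (n - 1) ≤ 15 * f * 13 := Nat.mul_le_mul_left _ (by omega)
        omega
      have hn : n = 15 ∨ n = 16 ∨ n = 17 := by omega
      rcases hi' with ⟨hie, rfl⟩ | ⟨hio, rfl⟩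
      · have h6 := Nat.le_of_dvd (Nat.mul_pos hk (by omega)) h24
        have h7 : k * b' ≤ k * n := Nat.mul_le_mul_left _ hin'
        omega
      · have h8 : k * (2 * i') ≤ k * (2 * n) := Nat.mul_le_mul_left _ (by omega)
        have e2 := eq_twentyfour h24 (Nat.mul_pos hk (by omega)) (h8.trans ht)
        have hi16 : i' ≤ 17 := by omega
        rcases hn with rfl | rfl | rfl
        · interval_cases i' <;> first | omega | exact absurd hio (by decide)
        · exact absurd hodd (by decide)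
        · interval_cases i' <;> omega
  | C m =>
    exfalso
    have ht : k * (2 * m) ≤ 30 * f := htop
    obtain ⟨i, hi1, him, rfl⟩ := hb
    obtain ⟨i', hi1', him', rfl⟩ := hb'
    have e1 := eq_thirty h30 (Nat.mul_pos hk (by omega)) ((Nat.mul_le_mul_left k (by omega)).trans ht)
    have e2 := eq_twentyfour h24 (Nat.mul_pos hk (by omega)) ((Nat.mul_le_mul_left k (by omega)).trans ht)
    have e3 : k * m = 15 * f := by
      have h7 : k * (2 * i) ≤ k * (2 * m) := Nat.mul_le_mul_left k (by omega)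
      have h8 : k * (2 * m) = 2 * (k * m) := by ring
      omega
    have hex : k * (m ^ 2) = 15 * f * m := by rw [← e3]; ring
    have hlo' : 104 * f < k * m ^ 2 := hlo
    have hhi' : k * m ^ 2 ≤ 120 * f := hhi
    have h8 : m ≤ 8 := by
      by_contra h
      have : 15 * f * 9 ≤ 15 * f * m := Nat.mul_le_mul_left _ (by omega)
      omega
    have h7 : 7 ≤ m := by
      by_contra h
      have : 15 * f * m ≤ 15 * f * 6 := Nat.mul_le_mul_left _ (by omega)
      omega
    have hn : m = 7 ∨ m = 8 := by omega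
    rcases hn with rfl | rfl <;> interval_cases i' <;> omega
  | P m =>
    exfalso
    have hm4 : 4 ≤ m := hv
    have ht : k * (2 * (m - 1)) ≤ 30 * f := htop
    have e3 : k * (m - 1) = 15 * f := by
      rcases hb with rfl | ⟨i, hi1, him, rfl⟩
      · exfalso
        have h6 := Nat.le_of_dvd (Nat.mul_pos hk (by omega)) h30
        have h7 : k * b < k * (2 * (b - 1)) := Nat.mul_lt_mul_of_pos_left (by omega) hk
        omega
      · have e1 := eq_thirty h30 (Nat.mul_pos hk (by omega)) ((Nat.mul_le_mul_left k (by omega)).trans ht)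
        have h7 : k * (2 * i) ≤ k * (2 * (m - 1)) := Nat.mul_le_mul_left k (by omega)
        have h8 : k * (2 * (m - 1)) = 2 * (k * (m - 1)) := by ring
        omega
    have hex : k * (m * (m - 1)) = 15 * f * m := by rw [← e3]; ring
    have hlo' : 104 * f < k * (m * (m - 1)) := hlo
    have hhi' : k * (m * (m - 1)) ≤ 120 * f := hhi
    have h8 : m ≤ 8 := by
      by_contra h
      have : 15 * f * 9 ≤ 15 * f * m := Nat.mul_le_mul_left _ (by omega)
      omega
    have h7 : 7 ≤ m := by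
      by_contra h
      have : 15 * f * m ≤ 15 * f * 6 := Nat.mul_le_mul_left _ (by omega)
      omega
    have hn : m = 7 ∨ m = 8 := by omega
    rcases hb' with rfl | ⟨i', hi1', him', rfl⟩
    · have h6 := Nat.le_of_dvd (Nat.mul_pos hk (by omega)) h24
      rcases hn with rfl | rfl <;> omega
    · have e2 := eq_twentyfour h24 (Nat.mul_pos hk (by omega)) ((Nat.mul_le_mul_left k (by omega)).trans ht)
      rcases hn with rfl | rfl <;> interval_cases i' <;> omega
  | M m =>
    exfalso
    have hm4 : 4 ≤ m := hv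
    have ht : k * (2 * m) ≤ 30 * f := htop
    have e3 : k * m = 15 * f := by
      have h8 : k * (2 * m) = 2 * (k * m) := by ring
      rcases hb with rfl | ⟨i, hi1, him, rfl⟩
      · have e1 := eq_thirty h30 (Nat.mul_pos hk (by omega)) ht
        omega
      · have h6 := Nat.le_of_dvd (Nat.mul_pos hk (by omega)) h30
        have h7 : k * (2 * i) < k * (2 * m) := Nat.mul_lt_mul_of_pos_left (by omega) hk
        omega
    have hex : k * (m * (m - 1)) = 15 * f * (m - 1) := by rw [← e3]; ring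
    have hlo' : 104 * f < k * (m * (m - 1)) := hlo
    have hhi' : k * (m * (m - 1)) ≤ 120 * f := hhi
    have h8 : m - 1 ≤ 8 := by
      by_contra h
      have : 15 * f * 9 ≤ 15 * f * (m - 1) := Nat.mul_le_mul_left _ (by omega)
      omega
    have h7 : 7 ≤ m - 1 := by
      by_contra h
      have : 15 * f * (m - 1) ≤ 15 * f * 6 := Nat.mul_le_mul_left _ (by omega)
      omega
    have hn : m = 8 ∨ m = 9 := by omega
    rcases hb' with rfl | ⟨i', hi1', him', rfl⟩
    · have e2 := eq_twentyfour h24 (Nat.mul_pos hk (by omega)) ht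
      have h8 : k * (2 * m) = 2 * (k * m) := by ring
      omega
    · have e2 := eq_twentyfour h24 (Nat.mul_pos hk (by omega)) ((Nat.mul_le_mul_left k (by omega)).trans ht)
      rcases hn with rfl | rfl <;> interval_cases i' <;> omega
  | G2 => exfalso; simp only [LT.expo, top] at *; omega
  | F4 => exfalso; simp only [LT.expo, top] at *; omega
  | E6 => exfalso; simp only [LT.expo, top] at *; omega
  | E7 =>
    exfalso
    simp only [LT.expo, top, Ex] at *
    have e2 := eq_twentyfour h24 (Nat.mul_pos hk (by omega)) ((Nat.mul_le_mul_left k (by omega)).trans htop)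
    have e1 := eq_thirty h30 (Nat.mul_pos hk (by omega)) ((Nat.mul_le_mul_left k (by omega)).trans htop)
    rcases hb with rfl | rfl | rfl | rfl | rfl | rfl | rfl <;>
      rcases hb' with rfl | rfl | rfl | rfl | rfl | rfl | rfl <;> omega
  | E8 =>
    refine ⟨rfl, ?_⟩
    simp only [LT.expo, top, Ex] at *
    have e1 := eq_thirty h30 (Nat.mul_pos hk (by omega)) ((Nat.mul_le_mul_left k (by omega)).trans htop)
    rcases hb with rfl | rfl | rfl | rfl | rfl | rfl | rfl | rfl <;> omega
  | TE6 => exfalso; simp only [LT.expo, top] at *; omega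
  | TD4 => exfalso; simp only [LT.expo, top] at *; omega
  | Sz => exfalso; simp only [LT.expo, top] at *; omega
  | Ree => exfalso; simp only [LT.expo, top] at *; omega
  | TF4 => exfalso; simp only [LT.expo, top] at *; omega

end Cfsg.Agent.H416.LieArith
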