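import Cfsg.Agent.OrdCrit.Main
import Cfsg.Agent.H416.LieArith

/-!
# Size and `p`-part of the orders of groups of Lie type (helper416)

For `IsOrd T p k M`: `tp p M = (p ^ k) ^ T.expo` and `M < ((p ^ k) ^ T.expo) ^ 3`.
-/

set_option autoImplicit false

namespace Cfsg.Agent.H416.LieArith

open Cfsg.Agent.H437 Finset Cfsg.Agent.OrdCrit Cfsg.Agent.H416.Arith

theorem cof_lt {T : LT} {p k : ℕ} (hp : p.Prime) (hk : k ≠ 0) (hv : T.Valid p k) :
    T.cof (p ^ k) < (p ^ k) ^ (2 * T.expo) := by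
  have hq : 2 ≤ p ^ k := two_le hp hk rfl
  generalize hqq : p ^ k = q at hq
  have hs : ∀ n, q ^ n - 1 ≤ q ^ n := fun n => Nat.sub_le _ _
  have hpl : ∀ n, 1 ≤ n → q ^ n + 1 ≤ q ^ (n + 1) := by
    intro n hn
    have : 1 ≤ q ^ n := Nat.one_le_pow _ _ (by omega)
    rw [pow_succ]; nlinarith
  cases T with
  | A n =>
    obtain ⟨m, rfl⟩ := Nat.exists_eq_add_of_le' hv.1
    refine lt_of_lt_of_eq (lin_lt (q := q) (n := m + 1) hq (by omega)) ?_
    congr 1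
    show (m + 1 + 1) * (m + 1) = 2 * ((m + 2) * (m + 2 - 1) / 2)
    rw [Nat.mul_div_cancel' (Nat.even_mul_pred_self (m + 2)).two_dvd]
    rfl
  | U n =>
    obtain ⟨m, rfl⟩ := Nat.exists_eq_add_of_le' hv.1
    have h := uni_lt (q := q) (n := m + 2) hq (by omega)
    have e : ∏ i ∈ range (m + 2), (if Even (i + 1) then q ^ (i + 1 + 1) + 1 else q ^ (i + 1 + 1) - 1) =
        LT.cof (.U (m + 3)) q := by
      refine prod_congr rfl fun i _ => ?_
      rcases Nat.even_or_odd i with hi | hi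
      · rw [if_pos hi, if_neg (by rw [Nat.even_add_one, not_not]; exact hi)]
      · rw [if_neg (Nat.not_even_iff_odd.2 hi), if_pos hi.add_one]
    rw [e] at h
    refine lt_of_lt_of_eq h ?_
    congr 1
    show (m + 2 + 1) * (m + 2) = 2 * ((m + 3) * (m + 3 - 1) / 2)
    rw [Nat.mul_div_cancel' (Nat.even_mul_pred_self (m + 3)).two_dvd]
    rfl
  | C m =>
    have hm : 2 ≤ m := hv.1
    refine (prod_lt (q := q) (m := m) hq (by omega)).trans_le (Nat.pow_le_pow_right (by omega) ?_)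
    show m * (m + 1) ≤ 2 * m ^ 2
    nlinarith
  | P m =>
    have hm : 4 ≤ m := hv
    have h2 : (q ^ m - 1) * ∏ i ∈ range (m - 1), (q ^ (2 * (i + 1)) - 1) < q ^ m * q ^ ((m - 1) * (m - 1 + 1)) := by
      have hqm : 0 < q ^ m := pow_pos (by omega) _
      calc _ ≤ (q ^ m - 1) * q ^ ((m - 1) * (m - 1 + 1)) := Nat.mul_le_mul_left _ (prod_le (m - 1))
        _ < _ := Nat.mul_lt_mul_of_pos_right (by omega) (pow_pos (by omega) _)
    refine h2.trans_le ?_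
    rw [← pow_add]
    apply Nat.pow_le_pow_right (by omega)
    show m + (m - 1) * (m - 1 + 1) ≤ 2 * (m * (m - 1))
    obtain ⟨j, rfl⟩ := Nat.exists_eq_add_of_le' hm
    have : j + 4 - 1 = j + 3 := by omega
    rw [this]
    nlinarith
  | M m =>
    have hm : 4 ≤ m := hv
    have h2 : (q ^ m + 1) * ∏ i ∈ range (m - 1), (q ^ (2 * (i + 1)) - 1) ≤
        q ^ (m + 1) * q ^ ((m - 1) * (m - 1 + 1)) := Nat.mul_le_mul (hpl m (by omega)) (prod_le (m - 1))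
    refine h2.trans_lt ?_
    rw [← pow_add]
    apply Nat.pow_lt_pow_right (by omega)
    show m + 1 + (m - 1) * (m - 1 + 1) < 2 * (m * (m - 1))
    obtain ⟨j, rfl⟩ := Nat.exists_eq_add_of_le' hm
    have : j + 4 - 1 = j + 3 := by omega
    rw [this]
    nlinarith
  | G2 =>
    calc _ ≤ q ^ 2 * q ^ 6 := Nat.mul_le_mul (hs _) (hs _)
      _ = q ^ 8 := by ring
      _ < q ^ 12 := Nat.pow_lt_pow_right (by omega) (by norm_num)
  | F4 =>
    calc _ ≤ q ^ 2 * q ^ 6 * q ^ 8 * q ^ 12 :=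
        Nat.mul_le_mul (Nat.mul_le_mul (Nat.mul_le_mul (hs _) (hs _)) (hs _)) (hs _)
      _ = q ^ 28 := by ring
      _ < q ^ 48 := Nat.pow_lt_pow_right (by omega) (by norm_num)
  | E6 =>
    calc _ ≤ q ^ 2 * q ^ 5 * q ^ 6 * q ^ 8 * q ^ 9 * q ^ 12 :=
        Nat.mul_le_mul (Nat.mul_le_mul (Nat.mul_le_mul (Nat.mul_le_mul (Nat.mul_le_mul (hs _) (hs _)) (hs _)) (hs _))
          (hs _)) (hs _)
      _ = q ^ 42 := by ring
      _ < q ^ 72 := Nat.pow_lt_pow_right (by omega) (by norm_num)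
  | E7 =>
    calc _ ≤ q ^ 2 * q ^ 6 * q ^ 8 * q ^ 10 * q ^ 12 * q ^ 14 * q ^ 18 :=
        Nat.mul_le_mul (Nat.mul_le_mul (Nat.mul_le_mul (Nat.mul_le_mul (Nat.mul_le_mul (Nat.mul_le_mul (hs _) (hs _))
          (hs _)) (hs _)) (hs _)) (hs _)) (hs _)
      _ = q ^ 70 := by ring
      _ < q ^ 126 := Nat.pow_lt_pow_right (by omega) (by norm_num)
  | E8 =>
    calc _ ≤ q ^ 2 * q ^ 8 * q ^ 12 * q ^ 14 * q ^ 18 * q ^ 20 * q ^ 24 * q ^ 30 :=
        Nat.mul_le_mul (Nat.mul_le_mul (Nat.mul_le_mul (Nat.mul_le_mul (Nat.mul_le_mul (Nat.mul_le_mul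
          (Nat.mul_le_mul (hs _) (hs _)) (hs _)) (hs _)) (hs _)) (hs _)) (hs _)) (hs _)
      _ = q ^ 128 := by ring
      _ < q ^ 240 := Nat.pow_lt_pow_right (by omega) (by norm_num)
  | TE6 =>
    calc _ ≤ q ^ 2 * q ^ 6 * q ^ 6 * q ^ 8 * q ^ 10 * q ^ 12 :=
        Nat.mul_le_mul (Nat.mul_le_mul (Nat.mul_le_mul (Nat.mul_le_mul (Nat.mul_le_mul (hs _) (hpl 5 (by norm_num)))
          (hs _)) (hs _)) (hpl 9 (by norm_num))) (hs _)
      _ = q ^ 44 := by ring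
      _ < q ^ 72 := Nat.pow_lt_pow_right (by omega) (by norm_num)
  | TD4 =>
    have h8 : q ^ 8 + q ^ 4 + 1 ≤ q ^ 10 := by
      have h4 : 1 ≤ q ^ 4 := Nat.one_le_pow _ _ (by omega)
      have e8 : q ^ 8 = q ^ 4 * q ^ 4 := by ring
      have e10 : q ^ 10 = q ^ 4 * q ^ 4 * (q * q) := by ring
      rw [e8, e10]
      have hqq : 4 ≤ q * q := Nat.mul_le_mul hq hq
      nlinarith [Nat.mul_le_mul h4 h4]
    calc _ ≤ q ^ 2 * q ^ 6 * q ^ 10 := Nat.mul_le_mul (Nat.mul_le_mul (hs _) (hs _)) h8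
      _ = q ^ 18 := by ring
      _ < q ^ 24 := Nat.pow_lt_pow_right (by omega) (by norm_num)
  | Sz =>
    have h1 : q - 1 < q := by omega
    calc (q - 1) * (q ^ 2 + 1) < q * q ^ 3 :=
          Nat.mul_lt_mul_of_lt_of_le h1 (hpl 2 (by norm_num)) (pow_pos (by omega) _)
      _ = q ^ 4 := by ring
  | Ree =>
    have h1 : q - 1 ≤ q := by omega
    calc (q - 1) * (q ^ 3 + 1) ≤ q * q ^ 4 := Nat.mul_le_mul h1 (hpl 3 (by norm_num))
      _ = q ^ 5 := by ring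
      _ < q ^ 6 := Nat.pow_lt_pow_right (by omega) (by norm_num)
  | TF4 =>
    have h1 : q - 1 ≤ q := by omega
    calc (q - 1) * (q ^ 3 + 1) * (q ^ 4 - 1) * (q ^ 6 + 1) ≤ q * q ^ 4 * q ^ 4 * q ^ 7 :=
          Nat.mul_le_mul (Nat.mul_le_mul (Nat.mul_le_mul h1 (hpl 3 (by norm_num))) (hs _)) (hpl 6 (by norm_num))
      _ = q ^ 16 := by ring
      _ < q ^ 24 := Nat.pow_lt_pow_right (by omega) (by norm_num)

theorem ex_pos {T : LT} {p k b : ℕ} (hv : T.Valid p k) (hb : Ex T b) : 0 < b := by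
  cases T with
  | A n => exact lt_of_lt_of_le (by norm_num) hb.1
  | U n => obtain ⟨i, h1, h2, ⟨-, rfl⟩ | ⟨-, rfl⟩⟩ := hb <;> omega
  | C m => obtain ⟨i, h1, h2, rfl⟩ := hb; omega
  | P m =>
    have hm : 4 ≤ m := hv
    obtain rfl | ⟨i, h1, h2, rfl⟩ := hb <;> omega
  | M m =>
    have hm : 4 ≤ m := hv
    obtain rfl | ⟨i, h1, h2, rfl⟩ := hb <;> omega
  | G2 => simp only [Ex] at hb; omega
  | F4 => simp only [Ex] at hb; omega
  | E6 => simp only [Ex] at hb; omega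
  | E7 => simp only [Ex] at hb; omega
  | E8 => simp only [Ex] at hb; omega
  | TE6 => simp only [Ex] at hb; omega
  | TD4 => simp only [Ex] at hb; omega
  | Sz => simp only [Ex] at hb; omega
  | Ree => simp only [Ex] at hb; omega
  | TF4 => simp only [Ex] at hb; omega

theorem not_dvd_sub {p j : ℕ} (hp : p.Prime) (hj : 0 < j) : ¬ p ∣ p ^ j - 1 := by
  intro h
  have h2 : p ∣ p ^ j := dvd_pow_self p hj.ne'
  have h3 : 1 ≤ p ^ j := Nat.one_le_pow _ _ hp.pos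
  have h4 := Nat.dvd_sub h2 h
  rw [Nat.sub_sub_self h3] at h4
  exact hp.one_lt.ne' (Nat.dvd_one.1 h4)

theorem not_dvd_add {p j : ℕ} (hp : p.Prime) (hj : 0 < j) : ¬ p ∣ p ^ j + 1 := by
  intro h
  have h2 : p ∣ p ^ j := dvd_pow_self p hj.ne'
  exact hp.one_lt.ne' (Nat.dvd_one.1 ((Nat.dvd_add_right h2).1 h))

theorem not_dvd_cof {T : LT} {p k : ℕ} (hp : p.Prime) (hk : k ≠ 0) (hv : T.Valid p k) : ¬ p ∣ T.cof (p ^ k) := by
  intro h
  obtain ⟨b, hb, h1⟩ := exists_ex hp hp h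
  exact not_dvd_sub hp (Nat.mul_pos (Nat.pos_of_ne_zero hk) (ex_pos hv hb)) h1

theorem not_dvd_dd {T : LT} {p k : ℕ} (hp : p.Prime) (hk : k ≠ 0) (hv : T.Valid p k) : ¬ p ∣ T.dd (p ^ k) := by
  have hk0 : 0 < k := Nat.pos_of_ne_zero hk
  have h1 : ¬ p ∣ 1 := fun h => hp.one_lt.ne' (Nat.dvd_one.1 h)
  intro h
  cases T with
  | A n => exact not_dvd_sub hp hk0 (h.trans (Nat.gcd_dvd_right _ _))
  | U n => exact not_dvd_add hp hk0 (h.trans (Nat.gcd_dvd_right _ _))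
  | C m => exact not_dvd_sub hp hk0 (h.trans (Nat.gcd_dvd_right _ _))
  | P m =>
    have hm : 4 ≤ m := hv
    have h2 := h.trans (Nat.gcd_dvd_right 4 ((p ^ k) ^ m - 1))
    rw [← pow_mul] at h2
    exact not_dvd_sub hp (Nat.mul_pos hk0 (by omega)) h2
  | M m =>
    have hm : 4 ≤ m := hv
    have h2 := h.trans (Nat.gcd_dvd_right 4 ((p ^ k) ^ m + 1))
    rw [← pow_mul] at h2
    exact not_dvd_add hp (Nat.mul_pos hk0 (by omega)) h2
  | G2 => exact h1 h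
  | F4 => exact h1 h
  | E6 => exact not_dvd_sub hp hk0 (h.trans (Nat.gcd_dvd_right _ _))
  | E7 => exact not_dvd_sub hp hk0 (h.trans (Nat.gcd_dvd_right _ _))
  | E8 => exact h1 h
  | TE6 => exact not_dvd_add hp hk0 (h.trans (Nat.gcd_dvd_right _ _))
  | TD4 => exact h1 h
  | Sz => exact h1 h
  | Ree => exact h1 h
  | TF4 => exact h1 h

section

variable {T : LT} {p k M : ℕ} (hO : IsOrd T p k M)
include hO

theorem cof_ne_zero : T.cof (p ^ k) ≠ 0 := by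
  intro h
  exact not_dvd_cof hO.prime hO.f_ne hO.valid (h ▸ dvd_zero p)

theorem dd_ne_zero : T.dd (p ^ k) ≠ 0 := by
  intro h
  exact not_dvd_dd hO.prime hO.f_ne hO.valid (h ▸ dvd_zero p)

theorem ord_ne_zero : M ≠ 0 := by
  rintro rfl
  have h := hO.eq
  rw [mul_zero] at h
  rcases Nat.mul_eq_zero.1 h.symm with h1 | h1
  · exact pow_ne_zero _ (pow_ne_zero _ hO.prime.ne_zero) h1
  · exact cof_ne_zero hO h1

/-- the `p`-part of the order -/
theorem tp_ord : tp p M = (p ^ k) ^ T.expo := by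
  have h := congrArg (tp p) hO.eq
  rw [tp_mul p (dd_ne_zero hO) (ord_ne_zero hO),
    tp_mul p (pow_ne_zero _ (pow_ne_zero _ hO.prime.ne_zero)) (cof_ne_zero hO),
    tp_eq_one (not_dvd_dd hO.prime hO.f_ne hO.valid), tp_eq_one (not_dvd_cof hO.prime hO.f_ne hO.valid),
    one_mul, mul_one, ← pow_mul] at h
  rw [h, ← pow_mul]
  unfold tp
  rw [hO.prime.factorization_pow]
  simp

/-- `M < (|M|_p)^3` -/
theorem ord_lt : M < ((p ^ k) ^ T.expo) ^ 3 := by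
  have h0 : 0 < (p ^ k) ^ T.expo := pow_pos (pow_pos hO.prime.pos _) _
  calc M ≤ T.dd (p ^ k) * M := Nat.le_mul_of_pos_left _ (Nat.pos_of_ne_zero (dd_ne_zero hO))
    _ = (p ^ k) ^ T.expo * T.cof (p ^ k) := hO.eq
    _ < (p ^ k) ^ T.expo * (p ^ k) ^ (2 * T.expo) :=
        Nat.mul_lt_mul_of_pos_left (cof_lt hO.prime hO.f_ne hO.valid) h0
    _ = _ := by
        generalize p ^ k = u
        rw [← pow_add, ← pow_mul]
        congr 1
        ring

theorem ord_lt_tp : M < tp p M ^ 3 := by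
  rw [tp_ord hO]; exact ord_lt hO

end

end Cfsg.Agent.H416.LieArith
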