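import Cfsg.Agent.H416.Iso
import Cfsg.Agent.H416.LieSize

/-!
# Groups with the order and the isolated tori of `E₈(q)` (helper416)
-/

set_option autoImplicit false

namespace Cfsg.Agent.H416.E8Main

open Cfsg.Agent.H416.Iso Cfsg.Agent.H416.Arith Cfsg.Agent.H416.LieArith Cfsg.Agent.H437 Cfsg.Agent.H363.Frat

universe u

section alt

theorem exists_alt {n r : ℕ} (hr : r.Prime) (hr2 : r ≠ 2) (h : r + 4 ≤ n) :
    ∃ g : alternatingGroup (Fin n), orderOf g = r * 2 := by
  obtain ⟨g, hg⟩ := (Equiv.Perm.exists_with_cycleType_iff (α := Fin n) (m := {r, 2, 2})).2 (by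
    constructor
    · simp
      omega
    · intro a ha
      simp only [Multiset.insert_eq_cons, Multiset.mem_cons, Multiset.mem_singleton] at ha
      have := hr.two_le
      omega)
  have hodd : Odd r := hr.odd_of_ne_two hr2
  have hs : g ∈ alternatingGroup (Fin n) := by
    rw [Equiv.Perm.mem_alternatingGroup, Equiv.Perm.sign_of_cycleType, hg]
    have : Even (Multiset.sum {r, 2, 2} + Multiset.card ({r, 2, 2} : Multiset ℕ)) := by
      simp only [Multiset.insert_eq_cons, Multiset.sum_cons, Multiset.sum_singleton, Multiset.card_cons,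
        Multiset.card_singleton]
      obtain ⟨k, rfl⟩ := hodd
      exact ⟨k + 4, by ring⟩
    exact this.neg_one_pow
  refine ⟨⟨g, hs⟩, ?_⟩
  rw [Subgroup.orderOf_mk, ← Equiv.Perm.lcm_cycleType, hg]
  simp only [Multiset.insert_eq_cons, Multiset.lcm_cons, Multiset.lcm_singleton]
  have h2 : Nat.Coprime r 2 := (Nat.coprime_primes hr Nat.prime_two).2 hr2
  simp only [normalize_eq]
  show Nat.lcm r (Nat.lcm 2 2) = r * 2
  rw [Nat.lcm_self]
  exact h2.lcm_eq_mul

theorem le_of_dvd_card {n r : ℕ} (hr : r.Prime) (h : r ∣ Nat.card (alternatingGroup (Fin n))) : r ≤ n := by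
  have h1 := h.trans (Subgroup.card_subgroup_dvd_card (alternatingGroup (Fin n)))
  rw [Nat.card_eq_fintype_card, Fintype.card_perm, Fintype.card_fin] at h1
  exact hr.dvd_factorial.1 h1

theorem no_alt {n : ℕ} {r : Fin 3 → ℕ} (hr : ∀ i, (r i).Prime) (h2 : ∀ i, r i ≠ 2)
    (hd : ∀ i, r i ∣ Nat.card (alternatingGroup (Fin n))) (hne : ∀ i j, i ≠ j → r i ≠ r j)
    (hn : ∀ i, NonAdj (alternatingGroup (Fin n)) (r i) 2) : False := by
  have key : ∀ i, r i ≤ n ∧ n ≤ r i + 3 ∧ r i % 2 = 1 := by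
    intro i
    refine ⟨le_of_dvd_card (hr i) (hd i), ?_, Nat.odd_iff.1 ((hr i).odd_of_ne_two (h2 i))⟩
    by_contra h
    obtain ⟨g, hg⟩ := exists_alt (hr i) (h2 i) (show r i + 4 ≤ n by omega)
    exact hn i g hg
  have h0 := key 0
  have h1 := key 1
  have h2 := key 2
  have h01 := hne 0 1 (by decide)
  have h02 := hne 0 2 (by decide)
  have h12 := hne 1 2 (by decide)
  omega

end alt

theorem dd_bound : ∀ d ∈ dd, 0 < d ∧ d ≤ 30 := by decide

section core

variable {p f : ℕ} (hp : p.Prime) (hf : 0 < f)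
include hp hf

theorem two_le_q : 2 ≤ p ^ f := hp.two_le.trans (Nat.le_self_pow hf.ne' p)

omit hf in
theorem dvd_q {t : ℕ} (ht : t.Prime) (h : t ∣ p ^ f) : t = p :=
  (Nat.prime_dvd_prime_iff_eq ht hp).1 (ht.dvd_of_dvd_pow h)

/-- primitive primes of `p ^ (ix i * f) - 1` divide `mm q i` -/
theorem prim_dvd_mm {i : Fin 3} {r : ℕ} (hr : Prim p (ix i * f) r) : r ∣ mm (p ^ f) i := by
  have h1 := (hr.2 _).2 (dvd_refl (ix i * f))
  rw [Nat.mul_comm, pow_mul, ← prod_c (ix_pos i) (two_le_q hp hf)] at h1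
  obtain ⟨j, hj, h2⟩ := (Prime.dvd_finsetProd_iff hr.1.prime _).1 h1
  rw [Nat.mem_divisors] at hj
  have hj0 : 0 < j := Nat.pos_of_dvd_of_pos hj.1 (ix_pos i)
  have h3 := h2.trans (c_dvd hj0 (two_le_q hp hf) (dvd_refl j))
  rw [← pow_mul, hr.2, Nat.mul_comm f j] at h3
  have h4 : ix i ∣ j := Nat.dvd_of_mul_dvd_mul_right hf h3
  rw [mm_eq, Nat.dvd_antisymm h4 hj.1]
  exact h2

theorem exists_prim_mm (i : Fin 3) : ∃ r, Prim p (ix i * f) r ∧ r ∣ mm (p ^ f) i := by
  obtain ⟨r, hr⟩ := exists_prim hp (e := ix i * f) (by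
    have : 15 ≤ ix i := by fin_cases i <;> decide
    nlinarith)
  exact ⟨r, hr, prim_dvd_mm hp hf hr⟩

theorem dvd_of_mm {a : ℕ} (h : ∀ i, mm (p ^ f) i ∣ p ^ a - 1) : 120 * f ∣ a := by
  have key : ∀ i, ix i * f ∣ a := by
    intro i
    obtain ⟨r, hr, h1⟩ := exists_prim_mm hp hf i
    exact (hr.2 a).1 (h1.trans (h i))
  have h1 : 24 * f ∣ a := key 1
  have h2 : 30 * f ∣ a := key 2
  have h3 := Nat.lcm_dvd h1 h2
  rw [Nat.lcm_mul_right] at h3
  exact h3

variable {G : Type u} [Group G] [Finite G] (hG : Nat.card G = N (p ^ f)) (h : Hyp G (mm (p ^ f)))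
include hG h

theorem core_prime {L : Subgroup G} [L.Normal] (hL : ∀ i, (mm (p ^ f) i).Coprime (Nat.card L)) {t : ℕ} (ht : t.Prime)
    (htL : t ∣ Nat.card L) : t = p := by
  by_contra hne
  have hq := two_le_q hp hf
  have htq : ¬ t ∣ p ^ f := fun h => hne (dvd_q hp ht h)
  have htm : ∀ i, ¬ t ∣ mm (p ^ f) i := by
    intro i hi
    have h1 : t ∣ Nat.gcd (mm (p ^ f) i) (Nat.card L) := Nat.dvd_gcd hi htL
    rw [hL i] at h1
    exact ht.one_lt.ne' (Nat.dvd_one.1 h1)
  have h1 : ∀ i, mm (p ^ f) i ∣ tp t (Nat.card L) - 1 := fun i => h.normal_dvd L (hL i) ht (htm i)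
  have h2 : PP (p ^ f) ∣ tp t (Nat.card L) - 1 := by
    apply Nat.Coprime.mul_dvd_of_dvd_of_dvd
    · apply Nat.Coprime.mul_left
      · exact cop_mm hq (by decide)
      · exact cop_mm hq (by decide)
    · exact (cop_mm hq (by decide)).mul_dvd_of_dvd_of_dvd (h1 0) (h1 1)
    · exact h1 2
  have h3 : 1 < tp t (Nat.card L) := by
    unfold tp
    exact Nat.one_lt_pow (ht.factorization_pos_of_dvd Nat.card_pos.ne' htL).ne' ht.one_lt
  have h4 : tp t (Nat.card L) ≤ tp t (N (p ^ f)) := by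
    rw [← hG]
    unfold tp
    apply Nat.pow_le_pow_right ht.pos
    exact (Nat.factorization_le_iff_dvd Nat.card_pos.ne' Nat.card_pos.ne').2 (Subgroup.card_subgroup_dvd_card L) t
  have h5 := tp_N_lt ht hq htq
  have h6 := Nat.le_of_dvd (by omega) h2
  omega

theorem core_card {L : Subgroup G} [L.Normal] (hL : ∀ i, (mm (p ^ f) i).Coprime (Nat.card L)) :
    Nat.card L = 1 ∨ Nat.card L = p ^ (120 * f) := by
  have hq := two_le_q hp hf
  set a := (Nat.card L).factorization p with ha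
  have h1 : Nat.card L = p ^ a := by
    rw [ha]
    exact (Nat.eq_prime_pow_of_unique_prime_dvd Nat.card_pos.ne' fun ht htL => core_prime hp hf hG h hL ht htL) ▸ by
      rw [Nat.eq_prime_pow_of_unique_prime_dvd (p := p) Nat.card_pos.ne' fun ht htL => core_prime hp hf hG h hL ht htL]
      simp [Nat.Prime.factorization_pow hp]
  have hpm : ∀ i, ¬ p ∣ mm (p ^ f) i := fun i hi => base_mm hq hp hi (dvd_pow_self p hf.ne')
  have h2 : 120 * f ∣ a := dvd_of_mm hp hf fun i => h.normal_dvd L (hL i) hp (hpm i)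
  have h3 : a ≤ 120 * f := by
    have h4 : p ^ a ∣ N (p ^ f) := by
      rw [← h1, ← hG]; exact Subgroup.card_subgroup_dvd_card L
    have h5 : (p ^ a).Coprime (N' (p ^ f)) := by
      apply Nat.Coprime.pow_left
      rw [hp.coprime_iff_not_dvd]
      intro h6
      obtain ⟨d, hd, h7⟩ := (Prime.dvd_finsetProd_iff hp.prime _).1 h6
      rw [← pow_mul] at h7
      exact not_dvd_sub hp (Nat.mul_pos hf (dd_bound d hd).1) h7
    have h6 : p ^ a ∣ (p ^ f) ^ 120 := h5.dvd_of_dvd_mul_right h4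
    rw [← pow_mul] at h6
    have := (Nat.pow_dvd_pow_iff_le_right hp.one_lt).1 h6
    omega
  rcases Nat.eq_zero_or_pos a with h4 | h4
  · left; rw [h1, h4, pow_zero]
  · right
    have := Nat.le_of_dvd h4 h2
    rw [h1]
    congr 1
    omega

end core

/-- **A group with the order and the isolated tori of `E₈(q)` is simple of type `E₈` over the field with `q`
elements.** -/
theorem main {p f : ℕ} (hp : p.Prime) (hf : 0 < f) {G : Type u} [Group G] [Finite G]
    (hG : Nat.card G = N (p ^ f)) (h : Hyp G (mm (p ^ f)))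
    (P : (Q : Type u) → [Group Q] → ℕ → Prop)
    (hP : ∀ (Q : Type u) [Group Q] (q : ℕ), P Q q → Nat.card Q = N q)
    (hev : ∀ (Q : Type u) [Group Q] [Finite Q], IsSimpleGroup Q → ¬ IsMulCommutative Q → 2 ∣ Nat.card Q)
    (hE : ∀ (Q : Type u) [Group Q] [Finite Q], IsSimpleGroup Q → ¬ IsMulCommutative Q →
      ∀ r : ℕ, r.Prime → r ≠ 2 → ¬ r ∣ Nat.card Q → ∀ x : MulAut Q, x ^ r = 1 → ∃ g : Q, orderOf g = 2 ∧ x g = g)
    (hS : ∀ (Q : Type u) [Group Q] [Finite Q], IsSimpleGroup Q → ¬ IsMulCommutative Q →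
      (∃ n, 5 ≤ n ∧ Nonempty (Q ≃* alternatingGroup (Fin n))) ∨
      (∃ T p k, IsOrd T p k (Nat.card Q) ∧ (T = .E8 → P Q (p ^ k))) ∨
      (∀ r : ℕ, r.Prime → r ∣ Nat.card Q → r ≤ 71)) :
    ∃ (Q : Type u) (_ : Group Q), Nonempty (G ≃* Q) ∧ P Q (p ^ f) := by
  have hq : 2 ≤ p ^ f := two_le_q hp hf
  obtain ⟨L, hLn, hLc, hred⟩ := exists_core G (mm (p ^ f))
  have hQ := h.quotient L hLc
  have hcQ : Nat.card G = Nat.card (G ⧸ L) * Nat.card L := Subgroup.card_eq_card_quotient_mul_card_subgroup L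
  have hLcard := core_card hp hf hG h hLc
  have hQge : (p ^ f) ^ 127 ≤ Nat.card (G ⧸ L) := by
    have h1 : Nat.card L ≤ (p ^ f) ^ 120 := by
      rw [← pow_mul, Nat.mul_comm f]
      rcases hLcard with h | h
      · rw [h]; exact Nat.one_le_pow _ _ hp.pos
      · rw [h]
    have h2 : (p ^ f) ^ 120 * N' (p ^ f) = Nat.card (G ⧸ L) * Nat.card L := by
      rw [← hcQ, hG]; rfl
    have h3 : (p ^ f) ^ 120 * N' (p ^ f) ≤ (p ^ f) ^ 120 * Nat.card (G ⧸ L) := by
      rw [h2, Nat.mul_comm ((p ^ f) ^ 120)]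
      exact Nat.mul_le_mul_left _ h1
    exact (N'_ge hq).trans (Nat.le_of_mul_le_mul_left h3 (pow_pos (by omega) _))
  have hnt : Nontrivial (G ⧸ L) := by
    rw [← Finite.one_lt_card_iff_nontrivial]
    exact lt_of_lt_of_le (Nat.one_lt_pow (by norm_num) (by omega)) hQge
  obtain ⟨M, hMn, hM1, hmin⟩ := exists_minimal hnt
  obtain ⟨hMs, hMc, hM2⟩ := hQ.simple_of_minimal hred (fun T hT hTc => hev T hT hTc) M hM1 hmin
  have hall : ∀ {i : Fin 3} {r : ℕ}, r.Prime → r ∣ mm (p ^ f) i → r ∣ Nat.card M := fun hr hrm =>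
    hQ.dvd_card M (hE M hMs hMc) hr hrm
  have hidx : M.index < (p ^ f) ^ 16 := by
    obtain ⟨r, hr, hrm⟩ := exists_prim_mm hp hf 1
    have h1 := hQ.index_lt M hr.1 hrm (hall hr.1 hrm)
    refine h1.trans_le ?_
    rw [show 16 = 8 * 2 by norm_num, pow_mul]
    exact Nat.pow_le_pow_left (mm1_lt hq).le 2
  have hcM : Nat.card M * M.index = Nat.card (G ⧸ L) := Subgroup.card_mul_index M
  have hcM0 : Nat.card M ≠ 0 := Nat.card_pos.ne'
  have hMge : (p ^ f) ^ 111 < Nat.card M := by
    have h1 : (p ^ f) ^ 111 * (p ^ f) ^ 16 < Nat.card M * (p ^ f) ^ 16 := by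
      calc (p ^ f) ^ 111 * (p ^ f) ^ 16 = (p ^ f) ^ 127 := by rw [← pow_add]
        _ ≤ Nat.card (G ⧸ L) := hQge
        _ = Nat.card M * M.index := hcM.symm
        _ < _ := Nat.mul_lt_mul_of_pos_left hidx Nat.card_pos
    exact Nat.lt_of_mul_lt_mul_right h1
  have hMQ : Nat.card M ∣ Nat.card (G ⧸ L) := Subgroup.card_subgroup_dvd_card M
  have hMN : Nat.card M ∣ N (p ^ f) := by
    rw [← hG, hcQ]; exact hMQ.mul_right _
  have hnonadj : ∀ i r, r.Prime → r ∣ mm (p ^ f) i → NonAdj M r 2 := by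
    intro i r hr hrm
    have h2 : ¬ 2 ∣ mm (p ^ f) i := fun h => prime_mm h (Or.inl rfl)
    exact (hQ.isol i r 2 hr Nat.prime_two hrm h2).subgroup M
  rcases hS M hMs hMc with ⟨n, -, ⟨e⟩⟩ | ⟨T, t, k, hO, hT⟩ | h71
  · exfalso
    choose r hr hrm using fun i : Fin 3 => exists_prim_mm hp hf i
    refine no_alt (n := n) (r := r) (fun i => (hr i).1) (fun i h => prime_mm (hrm i) (Or.inl h)) ?_ ?_ ?_
    · intro i
      rw [← Nat.card_congr e.toEquiv]
      exact hall (hr i).1 (hrm i)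
    · intro i j hij hrr
      have h1 : r i ∣ Nat.gcd (mm (p ^ f) i) (mm (p ^ f) j) := Nat.dvd_gcd (hrm i) (hrr ▸ hrm j)
      rw [cop_mm hq hij] at h1
      exact (hr i).1.one_lt.ne' (Nat.dvd_one.1 h1)
    · intro i
      exact (hnonadj i (r i) (hr i).1 (hrm i)).of_injective e.symm.toMonoidHom e.symm.injective
  · have htple : tp t (Nat.card M) ≤ tp t (N (p ^ f)) := by
      unfold tp
      apply Nat.pow_le_pow_right hO.prime.pos
      exact (Nat.factorization_le_iff_dvd hcM0 (N_pos hq).ne').2 hMN t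
    have hsz := ord_lt_tp hO
    by_cases htp : t = p
    · subst htp
      rcases hLcard with hL1 | hL1
      · -- `L = 1`
        have hLbot : L = ⊥ := Subgroup.card_eq_one.1 hL1
        rw [hL1, mul_one] at hcQ
        have hpN : tp t (N (t ^ f)) = t ^ (120 * f) := by
          unfold N
          rw [tp_mul t (pow_ne_zero _ (by omega)) (N'_pos hq).ne']
          have h1 : ¬ t ∣ N' (t ^ f) := by
            intro h6
            obtain ⟨d, hd, h7⟩ := (Prime.dvd_finsetProd_iff hp.prime _).1 h6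
            rw [← pow_mul] at h7
            exact not_dvd_sub hp (Nat.mul_pos hf (dd_bound d hd).1) h7
          rw [tp_eq_one h1, mul_one, ← pow_mul]
          unfold tp
          rw [hp.factorization_pow]
          simp [Nat.mul_comm]
        have htpM := tp_ord hO
        rw [← pow_mul] at htpM
        have hhi : k * T.expo ≤ 120 * f := by
          rw [htpM, hpN] at htple
          exact (Nat.pow_le_pow_iff_right hp.one_lt).1 htple
        have hlo : 104 * f < k * T.expo := by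
          have h1 : tp t (Nat.card M * M.index) = t ^ (120 * f) := by rw [hcM, ← hcQ, hG, hpN]
          have hi0 : M.index ≠ 0 := Subgroup.index_ne_zero_of_finite
          rw [tp_mul t hcM0 hi0, htpM] at h1
          have h2 : tp t M.index ≤ M.index := Nat.le_of_dvd (Nat.pos_of_ne_zero hi0) (tp_dvd t _)
          have h3 : t ^ (120 * f) < t ^ (k * T.expo + 16 * f) := by
            rw [← h1, pow_add]
            apply Nat.mul_lt_mul_of_pos_left _ (pow_pos hp.pos _)
            refine (h2.trans_lt hidx).trans_le ?_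
            rw [← pow_mul, Nat.mul_comm f]
          have := (Nat.pow_lt_pow_iff_right hp.one_lt).1 h3
          omega
        have hk : 0 < k := Nat.pos_of_ne_zero hO.f_ne
        have htop : k * top T ≤ 30 * f := by
          by_cases h7 : 7 ≤ k * top T
          · obtain ⟨r, hr⟩ := exists_prim hp h7
            have h1 := (top_dvd' hO h7 hr).trans hMN
            rcases (Nat.Prime.dvd_mul hr.1).1 h1 with h2 | h2
            · exact absurd (hr.1.dvd_of_dvd_pow (hr.1.dvd_of_dvd_pow h2)) (hr.not_dvd_p (by omega) hp.one_le)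
            · obtain ⟨d, hd, h3⟩ := (Prime.dvd_finsetProd_iff hr.1.prime _).1 h2
              rw [← pow_mul, hr.2] at h3
              obtain ⟨hd0, hd30⟩ := dd_bound d hd
              have h4 := Nat.le_of_dvd (Nat.mul_pos hf hd0) h3
              have h5 : f * d ≤ f * 30 := Nat.mul_le_mul_left f hd30
              omega
          · omega
        have h30 : ∃ b, Ex T b ∧ 30 * f ∣ k * b := by
          obtain ⟨r, hr, hrm⟩ := exists_prim_mm hp hf 2
          exact exists_of_dvd hO hr (Nat.mul_pos (ix_pos 2) hf) (hall hr.1 hrm)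
        have h24 : ∃ b, Ex T b ∧ 24 * f ∣ k * b := by
          obtain ⟨r, hr, hrm⟩ := exists_prim_mm hp hf 1
          exact exists_of_dvd hO hr (Nat.mul_pos (ix_pos 1) hf) (hall hr.1 hrm)
        obtain ⟨hTE, rfl⟩ := only_E8 hO hf hlo hhi htop h30 h24
        have hPM := hT hTE
        have h1 := hP M _ hPM
        have hMtop : M = ⊤ := Subgroup.eq_top_of_card_eq M (by rw [h1, ← hG, hcQ])
        refine ⟨M, inferInstance, ⟨?_⟩, hPM⟩
        have e1 : G ≃* G ⧸ L :=
          QuotientGroup.quotientBot.symm.trans (QuotientGroup.quotientMulEquivOfEq hLbot).symm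
        have e2 : M ≃* G ⧸ L := (MulEquiv.subgroupCongr hMtop).trans Subgroup.topEquiv
        exact e1.trans e2.symm
      · -- `|L| = q ^ 120`
        exfalso
        have h1 : ¬ t ∣ Nat.card M := by
          intro h2
          have h3 : t ∣ Nat.card (G ⧸ L) := h2.trans hMQ
          have h4 : Nat.card (G ⧸ L) = N' (t ^ f) := by
            have h5 : (t ^ f) ^ 120 * N' (t ^ f) = (t ^ f) ^ 120 * Nat.card (G ⧸ L) := by
              rw [show (t ^ f) ^ 120 * N' (t ^ f) = N (t ^ f) from rfl, ← hG, hcQ, hL1, Nat.mul_comm, ← pow_mul,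
                Nat.mul_comm f]
            exact (Nat.eq_of_mul_eq_mul_left (pow_pos (by omega) _) h5).symm
          rw [h4] at h3
          obtain ⟨d, hd, h7⟩ := (Prime.dvd_finsetProd_iff hp.prime _).1 h3
          rw [← pow_mul] at h7
          exact not_dvd_sub hp (Nat.mul_pos hf (dd_bound d hd).1) h7
        rw [tp_eq_one h1, one_pow] at hsz
        omega
    · exfalso
      have h1 := tp_N_lt hO.prime hq (fun h => htp (dvd_q hp hO.prime h))
      have h2 := PP_lt hq
      have h3 : tp t (Nat.card M) ^ 3 < ((p ^ f) ^ 25) ^ 3 :=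
        Nat.pow_lt_pow_left (htple.trans_lt (h1.trans h2)) (by norm_num)
      rw [← pow_mul] at h3
      have h4 : (p ^ f) ^ (25 * 3) ≤ (p ^ f) ^ 111 := Nat.pow_le_pow_right (by omega) (by norm_num)
      omega
  · exfalso
    obtain ⟨r, hr, hrm⟩ := exists_prim_mm hp hf 1
    have h1 := h71 r hr.1 (hall hr.1 hrm)
    have h2 : 24 ∣ r - 1 := (Nat.dvd_mul_right 24 f).trans (hr.mod hp.one_le (Nat.mul_pos (ix_pos 1) hf))
    obtain ⟨c, hc⟩ := h2
    have hr2 := hr.1.two_le
    have h3 : c = 1 ∨ c = 2 := by omega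
    rcases h3 with rfl | rfl
    · have : r = 25 := by omega
      rw [this] at hr
      exact absurd hr.1 (by norm_num)
    · have : r = 49 := by omega
      rw [this] at hr
      exact absurd hr.1 (by norm_num)

end Cfsg.Agent.H416.E8Main
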