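import Cfsg.Agent.H416.ThreePrimes
import Cfsg.Agent.H416.SylCount
import Cfsg.Agent.H357.Main

/-!
# Groups with the order and the large Sylow numbers of `A_n` (helper416)

`core` : `n ≥ 13`, `2 |G| = n!`, `2 |N_G(P)| = p (p - 1) (n - p)!` for the Sylow `p`-subgroups, `p` prime,
`n / 2 < p ≤ n`: then `G` is `A_n`.
-/

set_option autoImplicit false

namespace Cfsg.Agent.H416.SylCore

open Subgroup Cfsg Cfsg.Agent.H416.PiData Cfsg.Agent.H416.SylCount Cfsg.Agent.H357.Reduce Cfsg.Agent.H357
  Cfsg.Agent.OrdDiv Cfsg.Agent.H405.Shape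

universe u

/-! ### arithmetic -/

theorem choose_lt {n q k : ℕ} (hq : 1 ≤ q) (hqn : q ≤ n) (hk : 1 ≤ k) (hkn : k ≤ n) : (n - q).choose k < n.choose k := by
  obtain ⟨m, rfl⟩ : ∃ m, n = m + 1 := ⟨n - 1, by omega⟩
  obtain ⟨j, rfl⟩ : ∃ j, k = j + 1 := ⟨k - 1, by omega⟩
  have h1 : (m + 1 - q).choose (j + 1) ≤ m.choose (j + 1) := Nat.choose_le_choose _ (by omega)
  have h2 : 0 < m.choose j := Nat.choose_pos (by omega)
  rw [Nat.choose_succ_succ']
  omega

/-- a large prime `q` such that `q + 1` is not a power of two -/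
theorem exists_good {n : ℕ} (hn : 11 ≤ n) :
    ∃ q : ℕ, q.Prime ∧ n < 2 * q ∧ q ≤ n ∧ ∀ d, 2 ^ d ≠ q + 1 := by
  obtain ⟨p, s, hp, hs, hnp, hps, hsn⟩ := Cfsg.Agent.H363.TwoPrimes.exists_two_primes' n hn
  by_cases h : ∀ d, 2 ^ d ≠ p + 1
  · exact ⟨p, hp, hnp, by omega, h⟩
  · push Not at h
    obtain ⟨a, ha⟩ := h
    refine ⟨s, hs, by omega, hsn, fun b hb => ?_⟩
    have h1 : (2 : ℕ) ^ a < 2 ^ b := by omega
    have h2 : (2 : ℕ) ^ b < 2 ^ (a + 1) := by rw [pow_succ]; omega
    have h3 := (Nat.pow_lt_pow_iff_right (by norm_num : 1 < 2)).1 h1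
    have h4 := (Nat.pow_lt_pow_iff_right (by norm_num : 1 < 2)).1 h2
    omega

/-- the arithmetic of the last step -/
theorem eq_of_key {n m q N C : ℕ} (hq : q.Prime) (h1 : n < 2 * q) (hqm : q ≤ m) (hmn : m ≤ n)
    (hgood : ∀ d, 2 ^ d ≠ q + 1) (hN : N ≠ 0) (hC : C ≠ 0) (hCN : C ∣ N) (hqN : ¬ q ∣ N) (hq2 : q ≠ 2)
    (hkey : N * ((n - q).factorial * m.factorial) = C * ((m - q).factorial * n.factorial))
    (hact : ∀ t : ℕ, t.Prime → t ≠ q → q ∣ t ^ (N.factorization t - C.factorization t) - 1) : m = n := by
  by_contra hne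
  have hlt : m < n := by omega
  have hch : N * (n - q).choose (n - m) = C * n.choose (n - m) := by
    have e1 : n.factorial = n.choose (n - m) * (n - m).factorial * m.factorial := by
      rw [← Nat.choose_mul_factorial_mul_factorial (n := n) (k := n - m) (by omega), show n - (n - m) = m by omega]
    have e2 : (n - q).factorial = (n - q).choose (n - m) * (n - m).factorial * (m - q).factorial := by
      rw [← Nat.choose_mul_factorial_mul_factorial (n := n - q) (k := n - m) (by omega),
        show n - q - (n - m) = m - q by omega]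
    have e3 : 0 < (n - m).factorial * (m - q).factorial * m.factorial :=
      Nat.mul_pos (Nat.mul_pos (Nat.factorial_pos _) (Nat.factorial_pos _)) (Nat.factorial_pos _)
    rw [e1, e2] at hkey
    apply Nat.eq_of_mul_eq_mul_right e3
    calc N * (n - q).choose (n - m) * ((n - m).factorial * (m - q).factorial * m.factorial) =
        N * ((n - q).choose (n - m) * (n - m).factorial * (m - q).factorial * m.factorial) := by ring
      _ = C * ((m - q).factorial * (n.choose (n - m) * (n - m).factorial * m.factorial)) := hkey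
      _ = _ := by ring
  have hch1 : n.choose (n - m) ≠ 0 := (Nat.choose_pos (by omega)).ne'
  have hch2 : (n - q).choose (n - m) ≠ 0 := (Nat.choose_pos (by omega)).ne'
  have hNC : N = C := by
    apply Nat.eq_of_factorization_eq hN hC
    intro t
    by_cases ht : t.Prime
    · have hle : C.factorization t ≤ N.factorization t := (Nat.factorization_le_iff_dvd hC hN).2 hCN t
      by_cases htq : t = q
      · subst htq
        have := Nat.factorization_eq_zero_of_not_dvd hqN
        omega
      · have h2 := hact t ht htq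
        have h3 : (N * (n - q).choose (n - m)).factorization t = (C * n.choose (n - m)).factorization t := by rw [hch]
        rw [Nat.factorization_mul hN hch2, Nat.factorization_mul hC hch1, Finsupp.add_apply, Finsupp.add_apply] at h3
        have h4 : N.factorization t - C.factorization t ≤ (n.choose (n - m)).factorization t := by omega
        have h5 : t ^ (N.factorization t - C.factorization t) ≤ n :=
          (Nat.pow_le_pow_right ht.pos h4).trans (Nat.pow_factorization_choose_le (by omega))
        by_contra hne'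
        set d := N.factorization t - C.factorization t with hd
        have hd0 : d ≠ 0 := by omega
        have h6 : 1 < t ^ d := Nat.one_lt_pow hd0 ht.one_lt
        obtain ⟨c, hc⟩ := h2
        have hc1 : c = 1 := by
          have hc0 : c ≠ 0 := by
            rintro rfl
            omega
          have hc2 : c < 2 := by
            by_contra hlt'
            have : q * 2 ≤ q * c := Nat.mul_le_mul_left q (by omega)
            omega
          omega
        rw [hc1, mul_one] at hc
        have h7 : t ^ d = q + 1 := by omega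
        by_cases ht2 : t = 2
        · exact hgood d (ht2 ▸ h7)
        · obtain ⟨x, hx⟩ := (ht.odd_of_ne_two ht2).pow (n := d)
          obtain ⟨y, hy⟩ := hq.odd_of_ne_two hq2
          omega
    · rw [Nat.factorization_eq_zero_of_not_prime _ ht, Nat.factorization_eq_zero_of_not_prime _ ht]
  rw [hNC] at hch
  have h2 := Nat.eq_of_mul_eq_mul_left (Nat.pos_of_ne_zero hC) hch
  have h3 := choose_lt (n := n) (q := q) (k := n - m) hq.one_le (by omega) (by omega) (by omega)
  omega

/-! ### the group -/

theorem card_sylow_congr {A B : Type*} [Group A] [Group B] [Finite A] [Finite B] {q : ℕ} [Fact q.Prime] (e : A ≃* B)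
    (hA : (Nat.card A).factorization q = 1) (hB : (Nat.card B).factorization q = 1) :
    Nat.card (Sylow q A) = Nat.card (Sylow q B) := by
  have h1 := card_sylow_mul hA
  have h2 := card_sylow_mul hB
  have h3 : Nat.card {x : A // orderOf x = q} = Nat.card {x : B // orderOf x = q} :=
    Nat.card_congr (e.toEquiv.subtypeEquiv fun x => by
      show orderOf x = q ↔ orderOf (e x) = q
      rw [e.orderOf_eq])
  rw [h3, ← h2] at h1
  have := (Fact.out : q.Prime).two_le
  exact Nat.eq_of_mul_eq_mul_right (by omega) h1

section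

variable {G : Type*} [Group G] [Finite G] {n : ℕ} {N : Subgroup G} [N.Normal] {M : Subgroup (G ⧸ N)}

/-- comparison of the normalizers in `G` and in `G / N` -/
theorem key_eq (D : Data G n N M) (h : HypW G n) (hn : 11 ≤ n) {m : ℕ} (e : M ≃* alternatingGroup (Fin m))
    (hm : 2 * Nat.card M = m.factorial) (hmn : m ≤ n) {q : ℕ} (hq : q.Prime) (h1 : n < 2 * q) (h2 : q ≤ n)
    (Q : Sylow q G) :
    Nat.card N * ((n - q).factorial * m.factorial) =
      Nat.card ↥(N ⊓ centralizer ((Q : Subgroup G) : Set G)) * ((m - q).factorial * n.factorial) := by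
  have : Fact q.Prime := ⟨hq⟩
  have hM := D.normal
  obtain ⟨f1, f2, f3⟩ := fact_large D h hn hq h1 h2
  have hqN : (Nat.card N).Coprime q := by
    rw [Nat.coprime_comm, hq.coprime_iff_not_dvd]
    intro h3
    have := (hq.dvd_iff_one_le_factorization Nat.card_pos.ne').1 h3
    omega
  have hqi : ¬ q ∣ M.index := by
    intro h3
    have := (hq.dvd_iff_one_le_factorization M.index_ne_zero_of_finite).1 h3
    omega
  have hqm : q ≤ m := by
    rw [← hq.dvd_factorial, ← hm]
    exact (D.primes q hq h1 h2).mul_left 2
  have hfq : (Nat.card G).factorization q = 1 := h.fact_one (by omega) hq h1 h2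
  have hfK : (Nat.card (G ⧸ N)).factorization q = 1 := by
    rw [← M.card_mul_index, Nat.factorization_mul Nat.card_pos.ne' M.index_ne_zero_of_finite, Finsupp.add_apply, f1, f3]
  have hfA : (Nat.card (alternatingGroup (Fin m))).factorization q = 1 := by
    rw [← Nat.card_congr e.toEquiv]; exact f1
  -- the image of `Q`
  have hQcard : Nat.card Q = q := card_sylow_eq hfq Q
  set Qb : Subgroup (G ⧸ N) := (Q : Subgroup G).map (QuotientGroup.mk' N) with hQb
  have hQbcard : Nat.card Qb = q ^ (Nat.card (G ⧸ N)).factorization q := by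
    rw [hfK, pow_one, hQb]
    have h3 : Nat.card ((Q : Subgroup G).map (QuotientGroup.mk' N)) * Nat.card ↥(N ⊓ (Q : Subgroup G)) = Nat.card Q := by
      have h4 : Nat.card ((Q : Subgroup G).map (QuotientGroup.mk' N)) = N.relIndex (Q : Subgroup G) := by
        rw [← Subgroup.relIndex_ker, QuotientGroup.ker_mk']
      have h5 : Nat.card ↥(N ⊓ (Q : Subgroup G)) = Nat.card (N.subgroupOf (Q : Subgroup G)) := by
        rw [← Subgroup.inf_subgroupOf_right]
        exact (Nat.card_congr (subgroupOfEquivOfLe inf_le_right).toEquiv).symm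
      rw [h4, h5, mul_comm]
      exact Subgroup.card_mul_index _
    have h4 : N ⊓ (Q : Subgroup G) = ⊥ := by
      apply Disjoint.eq_bot
      apply Subgroup.disjoint_of_coprime_natCard
      rw [hQcard]
      exact hqN
    rw [h4, Subgroup.card_bot, mul_one] at h3
    rw [h3, hQcard]
  let Qb' : Sylow q (G ⧸ N) := Sylow.ofCard Qb hQbcard
  have hnum : Nat.card (normalizer (Qb : Set (G ⧸ N))) * Nat.card (Sylow q (G ⧸ N)) = Nat.card (G ⧸ N) := by
    rw [Sylow.card_eq_index_normalizer Qb']
    exact Subgroup.card_mul_index _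
  have hnum2 : Nat.card (Sylow q (G ⧸ N)) * (q * (q - 1) * (m - q).factorial) = m.factorial := by
    rw [card_sylow_of_normal hfK M hqi, card_sylow_congr e f1 hfA]
    exact card_sylow_alt (by omega) hqm (by omega) hfA
  have hquot := card_normalizer_quot (Q : Subgroup G) N hqN Q.2
  have hnorm := h.norm q hq h1 h2 Q
  have hG := h.card
  have hcardG : Nat.card G = Nat.card N * Nat.card (G ⧸ N) := by
    rw [card_eq N M, M.card_mul_index]
  rw [hquot] at hnorm
  rw [hcardG] at hG
  have hnq : 0 < Nat.card (Sylow q (G ⧸ N)) := Nat.card_pos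
  have hnn : 0 < Nat.card (normalizer (Qb : Set (G ⧸ N))) := Nat.card_pos
  have hpos : 0 < q * (q - 1) := Nat.mul_pos hq.pos (by have := hq.two_le; omega)
  generalize Nat.card N = a at *
  generalize Nat.card ↥(N ⊓ centralizer ((Q : Subgroup G) : Set G)) = c at *
  generalize Nat.card (Sylow q (G ⧸ N)) = s at *
  generalize Nat.card (normalizer (Qb : Set (G ⧸ N))) = b at *
  generalize q * (q - 1) = w at *
  -- `2 c b = w (n-q)!`, `b s = k`, `s w (m-q)! = m!`, `2 a k = n!`
  apply Nat.eq_of_mul_eq_mul_left (Nat.mul_pos (Nat.mul_pos hnq hnn) hpos)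
  calc s * b * w * (a * ((n - q).factorial * m.factorial)) =
      (b * s) * a * (w * (n - q).factorial) * m.factorial := by ring
    _ = Nat.card (G ⧸ N) * a * (2 * (c * b)) * (s * (w * (m - q).factorial)) := by rw [hnum, hnorm, hnum2]
    _ = s * b * w * (c * ((m - q).factorial * (2 * (a * Nat.card (G ⧸ N))))) := by ring
    _ = _ := by rw [hG]

theorem final (D : Data G n N M) (h : HypW G n) (hn : 11 ≤ n) {m : ℕ} (e : M ≃* alternatingGroup (Fin m))
    (hm : 2 * Nat.card M = m.factorial) : Nonempty (G ≃* alternatingGroup (Fin n)) := by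
  have hcardG := card_eq N M
  have hmn : m ≤ n := by
    by_contra hlt
    have h1 : m.factorial ∣ n.factorial := by
      rw [← hm, ← h.card]
      exact Nat.mul_dvd_mul_left 2 D.card_dvd
    have h2 : n.factorial < m.factorial := (Nat.factorial_lt (by omega)).2 (by omega)
    have := Nat.le_of_dvd (Nat.factorial_pos n) h1
    omega
  obtain ⟨q, hq, h1, h2, hgood⟩ := exists_good hn
  have : Fact q.Prime := ⟨hq⟩
  obtain ⟨f1, f2, f3⟩ := fact_large D h hn hq h1 h2
  have hqN : ¬ q ∣ Nat.card N := by
    intro h3
    have := (hq.dvd_iff_one_le_factorization Nat.card_pos.ne').1 h3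
    omega
  have hqm : q ≤ m := by
    rw [← hq.dvd_factorial, ← hm]
    exact (D.primes q hq h1 h2).mul_left 2
  let Q : Sylow q G := default
  have hQcard : Nat.card Q = q := card_sylow_eq (h.fact_one (by omega) hq h1 h2) Q
  have hmn' : m = n := eq_of_key hq h1 hqm hmn hgood (N := Nat.card N)
    (C := Nat.card ↥(N ⊓ centralizer ((Q : Subgroup G) : Set G))) Nat.card_pos.ne' Nat.card_pos.ne'
    (Subgroup.card_dvd_of_le inf_le_left) hqN (by omega) (key_eq D h hn e hm hmn hq h1 h2 Q)
    fun t ht htq => dvd_pow_diff hq ht htq (Q : Subgroup G) N hQcard hqN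
  subst hmn'
  have hMpos : 0 < Nat.card M := Nat.card_pos
  have h3 : Nat.card N * M.index = 1 := by
    have h4 := h.card
    rw [hcardG, ← hm] at h4
    apply Nat.eq_of_mul_eq_mul_right (Nat.mul_pos (show 0 < 2 by norm_num) hMpos)
    calc Nat.card N * M.index * (2 * Nat.card M) = 2 * (Nat.card N * (Nat.card M * M.index)) := by ring
      _ = 1 * (2 * Nat.card M) := by rw [h4, one_mul]
  have hN1 : N = ⊥ := Subgroup.card_eq_one.1 (Nat.eq_one_of_mul_eq_one_right h3)
  have hM1 : M = ⊤ := Subgroup.index_eq_one.1 (Nat.eq_one_of_mul_eq_one_left h3)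
  have e1 : G ≃* G ⧸ N := equivOf N hN1
  have e2 : M ≃* G ⧸ N := (MulEquiv.subgroupCongr hM1).trans Subgroup.topEquiv
  exact ⟨(e1.trans e2.symm).trans e⟩

end

/-- the simple section is alternating, `n ≥ 13` -/
theorem exists_alt (T : OrderTable.{u}) {G : Type u} [Group G] [Finite G] {n : ℕ} {N : Subgroup G} [N.Normal]
    {M : Subgroup (G ⧸ N)} (D : Data G n N M) (h : HypW G n) (hn : 13 ≤ n) (hk : IsKnownSimple' M) :
    ∃ m, Nonempty (M ≃* alternatingGroup (Fin m)) := by
  have hdvd : Nat.card M ∣ n.factorial := D.card_dvd.trans h.dvd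
  rcases Nat.lt_or_ge n 41 with h41 | h41
  · have key : ∀ {l : List (ℕ × ℕ)} {b : ℕ} {L : List ℕ}, Small.chk l b.factorial L = true → n ≤ b →
        (∀ p ∈ L, p.Prime ∧ b < 2 * p ∧ p ≤ n) → ∃ m, Nonempty (M ≃* alternatingGroup (Fin m)) := by
      intro l b L hchk hnb hL
      refine Main.of_chk T hk D.nonab hchk (hdvd.trans (Nat.factorial_dvd_factorial hnb)) fun p hp => ?_
      obtain ⟨h1, h2, h3⟩ := hL p hp
      exact D.primes p h1 (by omega) h3
    rcases Nat.lt_or_ge n 17 with h17 | h17
    · refine key (b := 16) (by rw [show Nat.factorial 16 = 20922789888000 by rfl]; exact Small.chk13) (by omega) ?_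
      intro p hp
      simp only [List.mem_cons, List.not_mem_nil, or_false] at hp
      rcases hp with rfl | rfl <;> exact ⟨by norm_num, by norm_num, by omega⟩
    rcases Nat.lt_or_ge n 19 with h19 | h19
    · refine key (b := 18) (by rw [show Nat.factorial 18 = 6402373705728000 by rfl]; exact Small.chk17) (by omega) ?_
      intro p hp
      simp only [List.mem_cons, List.not_mem_nil, or_false] at hp
      rcases hp with rfl | rfl | rfl <;> exact ⟨by norm_num, by norm_num, by omega⟩
    rcases Nat.lt_or_ge n 23 with h23 | h23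
    · refine key (b := 22) (by rw [show Nat.factorial 22 = 1124000727777607680000 by rfl]; exact Small.chk19) (by omega) ?_
      intro p hp
      simp only [List.mem_cons, List.not_mem_nil, or_false] at hp
      rcases hp with rfl | rfl | rfl <;> exact ⟨by norm_num, by norm_num, by omega⟩
    rcases Nat.lt_or_ge n 29 with h29 | h29
    · refine key (b := 28) (by rw [show Nat.factorial 28 = 304888344611713860501504000000 by rfl]; exact Small.chk23) (by omega) ?_
      intro p hp
      simp only [List.mem_cons, List.not_mem_nil, or_false] at hp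
      rcases hp with rfl | rfl | rfl <;> exact ⟨by norm_num, by norm_num, by omega⟩
    rcases Nat.lt_or_ge n 31 with h31 | h31
    · refine key (b := 30) (by rw [show Nat.factorial 30 = 265252859812191058636308480000000 by rfl]; exact Small.chk29) (by omega) ?_
      intro p hp
      simp only [List.mem_cons, List.not_mem_nil, or_false] at hp
      rcases hp with rfl | rfl | rfl | rfl <;> exact ⟨by norm_num, by norm_num, by omega⟩
    rcases Nat.lt_or_ge n 37 with h37 | h37
    · refine key (b := 36) (by rw [show Nat.factorial 36 = 371993326789901217467999448150835200000000 by rfl]; exact Small.chk31) (by omega) ?_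
      intro p hp
      simp only [List.mem_cons, List.not_mem_nil, or_false] at hp
      rcases hp with rfl | rfl | rfl | rfl <;> exact ⟨by norm_num, by norm_num, by omega⟩
    · refine key (b := 40) (by rw [show Nat.factorial 40 = 815915283247897734345611269596115894272000000000 by rfl]; exact Small.chk37) (by omega) ?_
      intro p hp
      simp only [List.mem_cons, List.not_mem_nil, or_false] at hp
      rcases hp with rfl | rfl | rfl | rfl <;> exact ⟨by norm_num, by norm_num, by omega⟩
  · obtain ⟨g, hr, ho⟩ := exists_shape T hk D.nonab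
    obtain ⟨m, rfl⟩ := LieBound.arith h41 hdvd (ThreePrimes.B_dvd D h h41) D.primes ho
    exact ⟨m, hr⟩

/-- **Large degrees** -/
theorem core (T : OrderTable.{u}) {G : Type u} [Group G] [Finite G] {n : ℕ} (hn : 13 ≤ n) (h : HypW G n)
    (hcl : ∀ (S : Type u) [Group S] [Finite S] [IsSimpleGroup S], IsKnownSimple' S) :
    Nonempty (G ≃* alternatingGroup (Fin n)) := by
  obtain ⟨N, hN, M, D⟩ := PiData.exists_data (by omega) h
  have := D.simple
  obtain ⟨m, ⟨e⟩⟩ := exists_alt T D h hn (hcl M)
  exact final D h (by omega) e (Main.two_mul_card D.nonab e)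

end Cfsg.Agent.H416.SylCore
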